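import Groth.Agent.QuadricLib.Quadric
import Groth.Agent.ProjSerreLib.Top
import Groth.Agent.HodgePnLib.EndLib
import Mathlib.LinearAlgebra.Matrix.Charpoly.Eigs

/-!
# Endomorphisms of sums of a line bundle with scalar endomorphisms
-/

set_option autoImplicit false
set_option backward.isDefEq.respectTransparency false
set_option linter.style.haveILetI false

universe u

open CategoryTheory CategoryTheory.Limits AlgebraicGeometry
open Groth.Agent.PullbackMod Groth.Agent.DCohLib Groth.Agent.StalkHomLib
open scoped TensorProduct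

noncomputable section

namespace Groth.Agent.QuadricLib

variable {k : Type u} [Field k] {X : Scheme.{u}} [X.Over (Spec (CommRingCat.of k))]

theorem stalkLin_cst' (A : X.Modules) (c : k) (x : X) (z : A.presheaf.stalk x) :
    stalkLin (VBLib.cst k A c : A ⟶ A) x z =
      X.presheaf.germ ⊤ x trivial (Coh.toGlobal (X ↘ Spec (CommRingCat.of k)) c) • z := by
  obtain ⟨U, hU, m, rfl⟩ := TopCat.Presheaf.exists_germ_eq A.presheaf z
  rw [stalkLin_germ]
  show A.presheaf.germ U x hU ((FactorOne.mulEnd A _).app U m) = _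
  rw [FactorOne.mulEnd_app, ParaFLib.germ_smul']
  exact congrArg (· • A.presheaf.germ U x hU m)
    (TopCat.Presheaf.germ_res_apply X.presheaf (homOfLE (le_top : U ≤ ⊤)) x hU _)

theorem tensR_map_cst' (A N : X.Modules) (c : k) :
    (CurveLib.tensR N).map (VBLib.cst k A c : A ⟶ A) =
      (VBLib.cst k ((CurveLib.tensR N).obj A) c : (CurveLib.tensR N).obj A ⟶ _) := by
  refine PullbackMod.hom_ext_stalk fun x => LinearMap.ext fun z => ?_
  obtain ⟨w, rfl⟩ := (DCohLib.stalkTensor x A N).surjective z
  refine (DCohLib.stalkTensor_natural_left x (VBLib.cst k A c : A ⟶ A) w).trans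
    (Eq.trans ?_ (stalkLin_cst' _ c x _).symm)
  refine (congrArg (DCohLib.stalkTensor x A N) (?_ : _ = X.presheaf.germ ⊤ x trivial
    (Coh.toGlobal (X ↘ Spec (CommRingCat.of k)) c) • w)).trans (map_smul (DCohLib.stalkTensor x A N) _ _)
  induction w using TensorProduct.induction_on with
  | zero => simp
  | tmul a b => rw [LinearMap.rTensor_tmul, stalkLin_cst', TensorProduct.smul_tmul']
  | add u v hu hv => rw [map_add, hu, hv, smul_add]

variable (k) in
/-- Multiplication by a constant, as a morphism. -/
abbrev cstH (E : X.Modules) (c : k) : E ⟶ E := VBLib.cst k E c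

theorem cstH_add (E : X.Modules) (a b : k) : cstH k E (a + b) = cstH k E a + cstH k E b := VBLib.cst_add k E a b

theorem cstH_zero (E : X.Modules) : cstH k E 0 = 0 := VBLib.cst_zero k E

theorem cstH_one (E : X.Modules) : cstH k E 1 = 𝟙 E := VBLib.cst_one k E

theorem cstH_sub (E : X.Modules) (a b : k) : cstH k E (a - b) = cstH k E a - cstH k E b := by
  rw [eq_sub_iff_add_eq, ← cstH_add, sub_add_cancel]

variable (k) in
/-- The endomorphisms of `M` are scalars. -/
def ScalarEnd (M : X.Modules) : Prop := ∀ f : M ⟶ M, ∃ c : k, f = (cstH k M c)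

/-- An invertible module has scalar endomorphisms when the only functions are constant. -/
theorem scalarEnd_of_inverse [IsProper (X ↘ Spec (CommRingCat.of k))]
    (hO : Module.finrank k (Coh.HH X (Coh.structureModule X) 0) = 1) {M M' : X.Modules}
    (η : CohB1.tensorMod M M' ≅ Coh.structureModule X) : ScalarEnd k M := fun f => by
  let e : (CurveLib.tensR M').obj M ≅ Coh.structureModule X := η
  obtain ⟨c, hc⟩ := HodgePnLib.exists_cst_structure k hO (e.inv ≫ (CurveLib.tensR M').map f ≫ e.hom)
  refine ⟨c, ?_⟩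
  haveI := VBLib.isEquivalence_tensR (AmpleLib.comm M' M ≪≫ η)
  refine (CurveLib.tensR M').map_injective ?_
  rw [tensR_map_cst', ← cancel_mono e.hom, VBLib.cst_natural, ← hc, Iso.hom_inv_id_assoc]

theorem hom_eq_zero_of_H0 {M : X.Modules} (h : Subsingleton (Coh.HH X M 0)) (g : Coh.structureModule X ⟶ M) :
    g = 0 := by
  haveI : Subsingleton Γ(M, ⊤) := (RpushLib.h0Γ M).toEquiv.subsingleton
  exact DCohLib.hom_unit_ext (Subsingleton.elim _ _)

theorem hom_eq_zero_of_inverse {M M' N : X.Modules} (η : CohB1.tensorMod M M' ≅ Coh.structureModule X)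
    (h : Subsingleton (Coh.HH X (CohB1.tensorMod N M') 0)) (f : M ⟶ N) : f = 0 := by
  let e : (CurveLib.tensR M').obj M ≅ Coh.structureModule X := η
  haveI := VBLib.isEquivalence_tensR (AmpleLib.comm M' M ≪≫ η)
  refine (CurveLib.tensR M').map_injective ?_
  rw [Functor.map_zero, ← cancel_epi e.inv, comp_zero]
  exact hom_eq_zero_of_H0 (M := (CurveLib.tensR M').obj N) h _

variable {r : ℕ} {M N : X.Modules}

/-- The endomorphism with a given matrix. -/
def matHom (S : Split (fun _ : Fin r => M) N) (A : Matrix (Fin r) (Fin r) k) : N ⟶ N :=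
  ∑ i, ∑ j, S.proj i ≫ (cstH k M (A i j)) ≫ S.inj j

theorem inj_matHom (S : Split (fun _ : Fin r => M) N) (A : Matrix (Fin r) (Fin r) k) (i : Fin r) :
    S.inj i ≫ matHom S A = ∑ j, (cstH k M (A i j)) ≫ S.inj j := by
  rw [matHom, Preadditive.comp_sum, Finset.sum_eq_single i]
  · rw [Preadditive.comp_sum]
    refine Finset.sum_congr rfl fun j _ => ?_
    rw [← Category.assoc, S.orth, dif_pos rfl]
    exact Category.id_comp _
  · intro b _ hb
    rw [Preadditive.comp_sum]
    refine Finset.sum_eq_zero fun j _ => ?_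
    rw [← Category.assoc, S.orth, dif_neg (Ne.symm hb), zero_comp]
  · simp

theorem split_hom_ext {T : X.Modules} (S : Split (fun _ : Fin r => M) N) {g g' : N ⟶ T}
    (h : ∀ i, S.inj i ≫ g = S.inj i ≫ g') : g = g' := by
  rw [← Category.id_comp g, ← Category.id_comp g', ← S.total, Preadditive.sum_comp, Preadditive.sum_comp]
  exact Finset.sum_congr rfl fun i _ => by rw [Category.assoc, Category.assoc, h]

theorem split_hom_ext_right {T : X.Modules} (S : Split (fun _ : Fin r => M) N) {g : T ⟶ N}
    (h : ∀ i, g ≫ S.proj i = 0) : g = 0 := by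
  rw [← Category.comp_id g, ← S.total, Preadditive.comp_sum]
  exact Finset.sum_eq_zero fun i _ => by rw [← Category.assoc, h, zero_comp]

theorem cst_sum {ι : Type} (s : Finset ι) (a : ι → k) :
    (cstH k M (∑ i ∈ s, a i)) = ∑ i ∈ s, (cstH k M (a i)) := by
  classical
  induction s using Finset.induction with
  | empty => simp [cstH_zero]
  | insert x s hx ih => rw [Finset.sum_insert hx, Finset.sum_insert hx, cstH_add, ih]

theorem matHom_mul (S : Split (fun _ : Fin r => M) N) (A B : Matrix (Fin r) (Fin r) k) :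
    matHom S A ≫ matHom S B = matHom S (A * B) := by
  refine split_hom_ext S fun i => ?_
  rw [← Category.assoc, inj_matHom, inj_matHom, Preadditive.sum_comp]
  simp only [Category.assoc, inj_matHom, Preadditive.comp_sum]
  rw [Finset.sum_comm]
  refine Finset.sum_congr rfl fun l _ => ?_
  rw [Matrix.mul_apply, cst_sum, Preadditive.sum_comp]
  refine Finset.sum_congr rfl fun j _ => ?_
  rw [← Category.assoc, mul_comm]
  exact congrArg (· ≫ S.inj l) (VBLib.cst_mul k M (B j l) (A i j)).symm

theorem matHom_smul_one (S : Split (fun _ : Fin r => M) N) (c : k) :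
    matHom S (c • (1 : Matrix (Fin r) (Fin r) k)) = (cstH k N c) := by
  refine split_hom_ext S fun i => ?_
  rw [inj_matHom, Finset.sum_eq_single i]
  · refine Eq.trans ?_ (VBLib.cst_natural k (S.inj i) c)
    simp
  · intro b _ hb
    simp [Matrix.one_apply_ne (Ne.symm hb), cstH_zero]
  · simp

theorem matHom_add (S : Split (fun _ : Fin r => M) N) (A B : Matrix (Fin r) (Fin r) k) :
    matHom S (A + B) = matHom S A + matHom S B := by
  simp only [matHom, Matrix.add_apply, cstH_add, Preadditive.add_comp, Preadditive.comp_add,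
    Finset.sum_add_distrib]

theorem exists_matHom (hM : ScalarEnd k M) (S : Split (fun _ : Fin r => M) N) (g : N ⟶ N) :
    ∃ A : Matrix (Fin r) (Fin r) k, g = matHom S A := by
  choose A hA using fun i j => hM (S.inj i ≫ g ≫ S.proj j)
  refine ⟨Matrix.of A, split_hom_ext S fun i => ?_⟩
  rw [inj_matHom]
  calc S.inj i ≫ g = (S.inj i ≫ g) ≫ ∑ j, S.proj j ≫ S.inj j := by rw [S.total, Category.comp_id]
    _ = _ := by
      rw [Preadditive.comp_sum]
      exact Finset.sum_congr rfl fun j _ => by
        rw [Matrix.of_apply, ← hA i j]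
        simp only [Category.assoc]

/-- An endomorphism of a sum of copies becomes invertible after adding all but finitely many constants. -/
theorem finite_not_isIso (hM : ScalarEnd k M) (S : Split (fun _ : Fin r => M) N) (g : N ⟶ N) :
    {c : k | ¬ IsIso (g + cstH k N c)}.Finite := by
  obtain ⟨A, rfl⟩ := exists_matHom hM S g
  refine (Matrix.finite_spectrum (-A)).subset fun c hc => spectrum.mem_iff.2 fun hu => hc ?_
  obtain ⟨u, hu⟩ := hu
  have hu' : (u : Matrix (Fin r) (Fin r) k) = A + c • 1 := by
    rw [hu, Algebra.algebraMap_eq_smul_one, sub_neg_eq_add, add_comm]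
  have h1 : matHom S (1 : Matrix (Fin r) (Fin r) k) = 𝟙 N := by
    rw [← one_smul k (1 : Matrix (Fin r) (Fin r) k), matHom_smul_one, cstH_one]
  rw [← matHom_smul_one S c, ← matHom_add, ← hu']
  exact ⟨⟨matHom S (↑u⁻¹ : Matrix (Fin r) (Fin r) k), by rw [matHom_mul, Units.mul_inv, h1],
    by rw [matHom_mul, Units.inv_mul, h1]⟩⟩

end Groth.Agent.QuadricLib
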