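import Groth.Agent.QuadricLib.Quadric

/-!
# A matrix of linear forms on the quadric, surjective on sections
-/

set_option autoImplicit false
set_option backward.isDefEq.respectTransparency false
set_option linter.style.haveILetI false

universe u

open CategoryTheory CategoryTheory.Limits AlgebraicGeometry

noncomputable section

namespace Groth.Agent.QuadricLib

variable (k : Type u) [Field k]

local notation "O(" d ")" => Twist.twistProjSpace 1 k d

/-- Tensoring on the first factor. -/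
abbrev F₁ (b : ℤ) : (CohB1.ProjSpace 1 k).Modules ⥤ (Z k).Modules :=
  Scheme.Modules.pullback (p₁ k) ⋙ CurveLib.tensR ((Scheme.Modules.pullback (p₂ k)).obj (O(b)))

/-- Tensoring on the second factor. -/
abbrev F₂ (a : ℤ) : (CohB1.ProjSpace 1 k).Modules ⥤ (Z k).Modules :=
  Scheme.Modules.pullback (p₂ k) ⋙ (DCoh.tensorBi (X := Z k)).obj ((Scheme.Modules.pullback (p₁ k)).obj (O(a)))

instance additive_F₁ (b : ℤ) : (F₁ k b).Additive := inferInstance

instance additive_F₂ (a : ℤ) : (F₂ k a).Additive := by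
  haveI : ((DCoh.tensorBi (X := Z k)).obj ((Scheme.Modules.pullback (p₁ k)).obj (O(a)))).Additive :=
    ModTensor.additive_tensorBi_obj _ _
  infer_instance

/-- The two maps `O → O(1)`, with their joint epimorphy and joint surjectivity on sections after tensoring. -/
theorem exists_coords : ∃ v : Fin 2 → (O(0) ⟶ O(1)),
    (∀ (b : ℤ) (T : (Z k).Modules) (h : L k 1 b ⟶ T), (∀ i, (F₁ k b).map (v i) ≫ h = 0) → h = 0) ∧
    (∀ (a : ℤ) (T : (Z k).Modules) (h : L k a 1 ⟶ T), (∀ i, (F₂ k a).map (v i) ≫ h = 0) → h = 0) ∧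
    (∀ b : ℤ, -1 ≤ b → ∀ z : Coh.HH (Z k) (L k 1 b) 0, ∃ w : Fin 2 → Coh.HH (Z k) (L k 0 b) 0,
      z = ∑ i, CurveLib.hMap (k := k) ((F₁ k b).map (v i)) 0 (w i)) ∧
    (∀ a : ℤ, -1 ≤ a → ∀ z : Coh.HH (Z k) (L k a 1) 0, ∃ w : Fin 2 → Coh.HH (Z k) (L k a 0) 0,
      z = ∑ i, CurveLib.hMap (k := k) ((F₂ k a).map (v i)) 0 (w i)) := by
  obtain ⟨S, hS, ⟨e₁⟩, ⟨s₀⟩, ⟨e₀⟩⟩ := exists_seq_P1 k (-1)
  let s : Split (fun _ : Fin 2 => O(0)) S.X₂ := s₀.pieces fun _ => eqToIso (by norm_num)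
  let e₃ : S.X₃ ≅ O(1) := e₀ ≪≫ eqToIso (by norm_num)
  let v : Fin 2 → (O(0) ⟶ O(1)) := fun i => s.inj i ≫ S.g ≫ e₃.hom
  have h₃ : FlatMod.IsFlat S.X₃ := fun x => PullbackMod.isFlat_of_isFinLocFree _
    (DCohLib.isFinLocFree_of_retract e₀.hom e₀.inv e₀.hom_inv_id
      (fun y => by
        obtain ⟨U, hy, hU⟩ := CurveLib.isFinLocFreeOfRank_one
          (PicProjLib.isInvertible_twist (n := 1) (R := k) (-1 + 2)) y
        exact ⟨U, 1, hy, hU⟩)) x
  have key : ∀ (F : (CohB1.ProjSpace 1 k).Modules ⥤ (Z k).Modules) [F.Additive], (S.map F).ShortExact →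
      (∀ (T : (Z k).Modules) (h : F.obj (O(1)) ⟶ T), (∀ i, F.map (v i) ≫ h = 0) → h = 0) ∧
      (Subsingleton (Coh.HH (Z k) (F.obj (O(-1))) 1) → ∀ z : Coh.HH (Z k) (F.obj (O(1))) 0,
        ∃ w : Fin 2 → Coh.HH (Z k) (F.obj (O(0))) 0, z = ∑ i, CurveLib.hMap (k := k) (F.map (v i)) 0 (w i)) := by
    intro F _ hF
    refine ⟨fun T h hh => ?_, fun hs z => ?_⟩
    · haveI := hF.epi_g
      have h1 : F.map S.g ≫ F.map e₃.hom ≫ h = 0 := by
        calc F.map S.g ≫ F.map e₃.hom ≫ h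
            = F.map (∑ i, s.proj i ≫ s.inj i) ≫ F.map S.g ≫ F.map e₃.hom ≫ h := by
              rw [s.total, CategoryTheory.Functor.map_id, Category.id_comp]
          _ = ∑ i, F.map (s.proj i) ≫ F.map (v i) ≫ h := by
              rw [Functor.map_sum, Preadditive.sum_comp]
              exact Finset.sum_congr rfl fun i _ => by simp only [v, Functor.map_comp, Category.assoc]
          _ = 0 := by simp [hh]
      haveI : Epi ((S.map F).g) := hF.epi_g
      have h2 : F.map e₃.hom ≫ h = 0 := (cancel_epi (S.map F).g).1 (h1.trans comp_zero.symm)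
      exact (cancel_epi (F.map e₃.hom)).1 (h2.trans comp_zero.symm)
    · haveI : Subsingleton (Coh.HH (Z k) (S.map F).X₁ (0 + 1)) :=
        (hEquiv (k := k) (F.mapIso e₁) 1).toEquiv.subsingleton
      obtain ⟨y, hy⟩ := surjective_hMap_g (k := k) hF 0 (CurveLib.hMap (k := k) (F.map e₃.inv) 0 z)
      refine ⟨(s.map F).hhEquiv (k := k) 0 y, ?_⟩
      calc z = CurveLib.hMap (k := k) (F.map e₃.hom) 0 (CurveLib.hMap (k := k) (F.map S.g) 0 y) := by
            show z = CurveLib.hMap (k := k) (F.map e₃.hom) 0 (CurveLib.hMap (k := k) (S.map F).g 0 y)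
            rw [hy, ← hMap_comp, ← F.map_comp, e₃.inv_hom_id, CategoryTheory.Functor.map_id, hMap_id]
        _ = CurveLib.hMap (k := k) ((∑ i, F.map (s.proj i) ≫ F.map (s.inj i)) ≫ F.map S.g ≫ F.map e₃.hom) 0 y := by
            rw [show (∑ i, F.map (s.proj i) ≫ F.map (s.inj i)) = 𝟙 (F.obj S.X₂) from (s.map F).total,
              Category.id_comp, hMap_comp]
        _ = _ := by
            rw [Preadditive.sum_comp, hMap_sum]
            refine Finset.sum_congr rfl fun i _ => ?_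
            show _ = CurveLib.hMap (k := k) (F.map (v i)) 0 (CurveLib.hMap (k := k) (F.map (s.proj i)) 0 y)
            rw [← hMap_comp]
            simp only [v, Functor.map_comp, Category.assoc]
  have hF₁ : ∀ b, (S.map (F₁ k b)).ShortExact := fun b =>
    CurveLib.shortExact_tensR (DCohLib.shortExact_pullback_of_isFlat (p₁ k) S hS h₃)
      (CurveLib.freeAt_one_of_isInvertible
        (AmpleLib.isInvertible_pullback _ (PicProjLib.isInvertible_twist (n := 1) (R := k) b)))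
  have hF₂ : ∀ a, (S.map (F₂ k a)).ShortExact := fun a => by
    haveI : ((DCoh.tensorBi (X := Z k)).obj ((Scheme.Modules.pullback (p₁ k)).obj (O(a)))).Additive :=
      ModTensor.additive_tensorBi_obj _ _
    let e : CurveLib.tensR ((Scheme.Modules.pullback (p₁ k)).obj (O(a))) ≅
        (DCoh.tensorBi (X := Z k)).obj ((Scheme.Modules.pullback (p₁ k)).obj (O(a))) :=
      ModTensor.tensorSymm (Z k).sheaf _
    exact ShortComplex.shortExact_of_iso ((S.map (Scheme.Modules.pullback (p₂ k))).mapNatIso e)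
      (CurveLib.shortExact_tensR (DCohLib.shortExact_pullback_of_isFlat (p₂ k) S hS h₃)
        (CurveLib.freeAt_one_of_isInvertible
          (AmpleLib.isInvertible_pullback _ (PicProjLib.isInvertible_twist (n := 1) (R := k) a))))
  exact ⟨v, fun b => (key (F₁ k b) (hF₁ b)).1, fun a => (key (F₂ k a) (hF₂ a)).1,
    fun b hb => (key (F₁ k b) (hF₁ b)).2 (h1_L k (-1) b (by omega) (by omega)),
    fun a ha => (key (F₂ k a) (hF₂ a)).2 (h1_L k a (-1) (by omega) (by omega))⟩

/-- Two different ones of `u₀, u₁, u₀ + u₁` generate both `u₀` and `u₁`. -/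
theorem mem_of_two {A : Type*} [AddCommGroup A] (K : AddSubgroup A) (v : Fin 2 → A) {c c' : Fin 3} (h : c ≠ c')
    (hc : ![v 0, v 1, v 0 + v 1] c ∈ K) (hc' : ![v 0, v 1, v 0 + v 1] c' ∈ K) : ∀ i, v i ∈ K := by
  intro i
  fin_cases c <;> fin_cases c' <;> simp at h hc hc' <;> fin_cases i <;>
    first
      | exact hc
      | exact hc'
      | (simpa using K.sub_mem hc hc')
      | (simpa using K.sub_mem hc' hc)

variable {k}

theorem comm_sq (g f : O(0) ⟶ O(1)) :
    (F₂ k 0).map g ≫ (F₁ k 1).map f = (F₁ k 0).map f ≫ (F₂ k 1).map g :=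
  (tensBi_natural ((Scheme.Modules.pullback (p₁ k)).map f) ((Scheme.Modules.pullback (p₂ k)).map g)).symm

/-- The colour of a row. -/
def col (r : ℕ) (i : Fin r) : Fin 3 :=
  if i.1 + 1 = r then 2 else if i.1 % 2 = 0 then 0 else 1

/-- The next row. -/
def nxt {r : ℕ} (i : Fin r) : Fin r :=
  ⟨if i.1 + 1 = r then 0 else i.1 + 1, by have := i.2; split_ifs <;> omega⟩

theorem col_ne {r : ℕ} (hr : 2 ≤ r) (i : Fin r) : col r i ≠ col r (nxt i) := by
  have := i.2
  have key : ∀ n : ℕ, n + 1 < r → (if n % 2 = 0 then (0 : Fin 3) else 1) ≠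
      (if n + 1 + 1 = r then 2 else if (n + 1) % 2 = 0 then 0 else 1) := fun n hn => by
    rcases Nat.mod_two_eq_zero_or_one n with h | h <;>
      simp [h, Nat.add_mod] <;> split_ifs <;> decide
  by_cases h : i.1 + 1 = r
  · have h' : ¬ (0 + 1 = r) := by omega
    simp [col, nxt, h, show r ≠ 1 by omega, Ne.symm (show r ≠ 1 by omega)]
  · simpa [col, nxt, h] using key i.1 (by omega)

theorem nxt_surjective {r : ℕ} (i : Fin r) : ∃ j, nxt j = i := by
  have := i.2
  by_cases h : i.1 = 0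
  · exact ⟨⟨r - 1, by omega⟩, Fin.ext (by simp only [nxt]; split_ifs <;> omega)⟩
  · exact ⟨⟨i.1 - 1, by omega⟩, Fin.ext (by simp only [nxt]; split_ifs <;> omega)⟩

variable (k) in
theorem exists_matrix {r : ℕ} (hr : 2 ≤ r) :
    ∃ m : (∐ fun _ : Fin r => L k 1 0) ⊞ (∐ fun _ : Fin r => L k 0 1) ⟶ ∐ fun _ : Fin r => L k 1 1,
      Epi m ∧ Function.Surjective (CurveLib.hMap (k := k) m 0) := by
  classical
  obtain ⟨v, hE₁, hE₂, hH₁, hH₂⟩ := exists_coords k
  let ι := Sigma.ι (fun _ : Fin r => L k 1 1)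
  let ℓ : Fin r → (O(0) ⟶ O(1)) := fun j => ![v 0, v 1, v 0 + v 1] (col r j)
  let A : Fin r → (L k 1 0 ⟶ L k 1 1) := fun j => (F₂ k 1).map (ℓ j)
  let x : Fin 2 → (L k 0 1 ⟶ L k 1 1) := fun i => (F₁ k 1).map (v i)
  let m := biprod.desc (Sigma.desc fun j => A j ≫ ι j)
    (Sigma.desc fun j => x 0 ≫ ι j + x 1 ≫ ι (nxt j))
  refine ⟨m, Preadditive.epi_of_cancel_zero _ fun {T} g hg => ?_, ?_⟩
  · have hA : ∀ j, A j ≫ ι j ≫ g = 0 := fun j => by
      simpa [m] using congrArg (fun t => Sigma.ι (fun _ : Fin r => L k 1 0) j ≫ biprod.inl ≫ t) hg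
    have hB : ∀ j, x 0 ≫ ι j ≫ g + x 1 ≫ ι (nxt j) ≫ g = 0 := fun j => by
      simpa [m] using congrArg (fun t => Sigma.ι (fun _ : Fin r => L k 0 1) j ≫ biprod.inr ≫ t) hg
    have hx₀ : ∀ j, x 0 ≫ ι j ≫ g = 0 := fun j => by
      refine hE₂ 0 T _ fun i => ?_
      let K : AddSubgroup (O(0) ⟶ O(1)) :=
        { carrier := {f | (F₂ k 0).map f ≫ x 0 ≫ ι j ≫ g = 0}
          add_mem' := fun {a b} ha hb => by
            simp only [Set.mem_setOf_eq] at ha hb ⊢
            rw [Functor.map_add, Preadditive.add_comp, ha, hb, add_zero]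
          zero_mem' := by simp
          neg_mem' := fun {a} ha => by
            simp only [Set.mem_setOf_eq] at ha ⊢
            rw [Functor.map_neg, Preadditive.neg_comp, ha, neg_zero] }
      refine mem_of_two K v (col_ne hr j) ?_ ?_ i
      · show (F₂ k 0).map (ℓ j) ≫ (F₁ k 1).map (v 0) ≫ ι j ≫ g = 0
        rw [← Category.assoc, comm_sq, Category.assoc, hA j, comp_zero]
      · show (F₂ k 0).map (ℓ (nxt j)) ≫ (F₁ k 1).map (v 0) ≫ ι j ≫ g = 0
        rw [show (F₁ k 1).map (v 0) ≫ ι j ≫ g = -((F₁ k 1).map (v 1) ≫ ι (nxt j) ≫ g) from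
          eq_neg_of_add_eq_zero_left (hB j), Preadditive.comp_neg, ← Category.assoc, comm_sq, Category.assoc,
          hA (nxt j), comp_zero, neg_zero]
    refine Sigma.hom_ext _ _ fun i => ?_
    rw [comp_zero]
    refine hE₁ 1 T _ fun t => ?_
    fin_cases t
    · exact hx₀ i
    · obtain ⟨j, rfl⟩ := nxt_surjective i
      have := hB j
      rw [hx₀ j, zero_add] at this
      exact this
  · let M := LinearMap.range (CurveLib.hMap (k := k) m 0)
    have hAm : ∀ j y, CurveLib.hMap (k := k) (A j ≫ ι j) 0 y ∈ M := fun j y =>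
      ⟨CurveLib.hMap (k := k) (Sigma.ι (fun _ : Fin r => L k 1 0) j ≫ biprod.inl) 0 y, by
        rw [← hMap_comp]; simp [m]⟩
    have hBm : ∀ j y, CurveLib.hMap (k := k) (x 0 ≫ ι j + x 1 ≫ ι (nxt j)) 0 y ∈ M := fun j y =>
      ⟨CurveLib.hMap (k := k) (Sigma.ι (fun _ : Fin r => L k 0 1) j ≫ biprod.inr) 0 y, by
        rw [← hMap_comp]; simp [m]⟩
    have hx₀ : ∀ j y, CurveLib.hMap (k := k) (x 0 ≫ ι j) 0 y ∈ M := fun j y => by
      obtain ⟨w, rfl⟩ := hH₂ 0 (by omega) y
      rw [map_sum]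
      refine Submodule.sum_mem _ fun i _ => ?_
      let K : AddSubgroup (O(0) ⟶ O(1)) :=
        { carrier := {f | ∀ t, CurveLib.hMap (k := k) ((F₂ k 0).map f ≫ x 0 ≫ ι j) 0 t ∈ M}
          add_mem' := fun {a b} ha hb t => by
            rw [Functor.map_add, Preadditive.add_comp, hMap_add]
            exact M.add_mem (ha t) (hb t)
          zero_mem' := fun t => by
            rw [Functor.map_zero, zero_comp, hMap_zero]
            exact M.zero_mem
          neg_mem' := fun {a} ha t => by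
            have h := hMap_add (k := k) ((F₂ k 0).map (-a) ≫ x 0 ≫ ι j) ((F₂ k 0).map a ≫ x 0 ≫ ι j) 0 t
            rw [← Preadditive.add_comp, ← Functor.map_add, neg_add_cancel, Functor.map_zero, zero_comp, hMap_zero] at h
            rw [eq_neg_of_add_eq_zero_left h.symm]
            exact M.neg_mem (ha t) }
      suffices h : CurveLib.hMap (k := k) ((F₂ k 0).map (v i) ≫ x 0 ≫ ι j) 0 (w i) ∈ M by
        rw [hMap_comp] at h; exact h
      refine mem_of_two K v (col_ne hr j) (fun t => ?_) (fun t => ?_) i (w i)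
      · show CurveLib.hMap (k := k) ((F₂ k 0).map (ℓ j) ≫ (F₁ k 1).map (v 0) ≫ ι j) 0 t ∈ M
        rw [← Category.assoc, comm_sq, Category.assoc, hMap_comp]
        exact hAm j _
      · show CurveLib.hMap (k := k) ((F₂ k 0).map (ℓ (nxt j)) ≫ x 0 ≫ ι j) 0 t ∈ M
        have h1 := hBm j (CurveLib.hMap (k := k) ((F₂ k 0).map (ℓ (nxt j))) 0 t)
        have h2 : CurveLib.hMap (k := k) ((F₂ k 0).map (ℓ (nxt j)) ≫ x 1 ≫ ι (nxt j)) 0 t ∈ M := by
          show CurveLib.hMap (k := k) ((F₂ k 0).map (ℓ (nxt j)) ≫ (F₁ k 1).map (v 1) ≫ ι (nxt j)) 0 t ∈ M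
          rw [← Category.assoc, comm_sq, Category.assoc, hMap_comp]
          exact hAm (nxt j) _
        have h3 : CurveLib.hMap (k := k) ((F₂ k 0).map (ℓ (nxt j)) ≫ (x 0 ≫ ι j + x 1 ≫ ι (nxt j))) 0 t ∈ M := by
          rw [hMap_comp]; exact h1
        rw [Preadditive.comp_add, hMap_add] at h3
        simpa using M.sub_mem h3 h2
    intro z
    show z ∈ M
    let S := sigmaSplit (fun _ : Fin r => L k 1 1)
    rw [← hMap_id (k := k) _ _ z, ← S.total, hMap_sum]
    refine Submodule.sum_mem _ fun i _ => ?_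
    rw [hMap_comp]
    obtain ⟨w, hw⟩ := hH₁ 1 (by omega) (CurveLib.hMap (k := k) (S.proj i) 0 z)
    rw [hw, map_sum]
    refine Submodule.sum_mem _ fun t _ => ?_
    suffices h : CurveLib.hMap (k := k) (x t ≫ ι i) 0 (w t) ∈ M by
      rw [hMap_comp] at h; exact h
    fin_cases t
    · exact hx₀ i (w 0)
    · obtain ⟨j, rfl⟩ := nxt_surjective i
      have h1 := hBm j (w 1)
      rw [hMap_add] at h1
      simpa using M.sub_mem h1 (hx₀ j (w 1))

end Groth.Agent.QuadricLib
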