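import Groth.Agent.DetLib.AffTensor
import Groth.Agent.DetLib.Ses

/-!
# An exterior power is a direct summand of a tensor product when factorials are invertible
-/

set_option autoImplicit false
set_option backward.isDefEq.respectTransparency false
set_option linter.style.haveILetI false

universe u

open CategoryTheory CategoryTheory.Limits AlgebraicGeometry TopologicalSpace Opposite
open Groth.Agent.DCohLib
open scoped TensorProduct

noncomputable section

namespace Groth.Agent.QuadricLib

section module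

variable {R : Type u} [CommRing R] {M : Type u} [AddCommGroup M] [Module R M] (n : ℕ)

/-- The wedge product with a vector. -/
def wedgeMul : M ⊗[R] ↥(⋀[R]^n M) →ₗ[R] ↥(⋀[R]^(n + 1) M) :=
  TensorProduct.lift (exteriorPower.alternatingMapLinearEquiv.toLinearMap ∘ₗ (exteriorPower.ιMulti R (n + 1) (M := M)).curryLeft)

theorem wedgeMul_tmul (m : M) (v : Fin n → M) :
    wedgeMul n (m ⊗ₜ[R] exteriorPower.ιMulti R n v) = exteriorPower.ιMulti R (n + 1) (Matrix.vecCons m v) := by
  rw [wedgeMul, TensorProduct.lift.tmul]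
  exact exteriorPower.alternatingMapLinearEquiv_apply_ιMulti _ v

/-- The splitting off of the first vector. -/
def headTail : MultilinearMap R (fun _ : Fin (n + 1) => M) (M ⊗[R] ↥(⋀[R]^n M)) :=
  LinearMap.uncurryLeft
    { toFun := fun m => (TensorProduct.mk R M _ m).compMultilinearMap
        (exteriorPower.ιMulti R n (M := M) : MultilinearMap R (fun _ : Fin n => M) _)
      map_add' := fun a b => by ext v; simp
      map_smul' := fun c a => by ext v; simp }

theorem headTail_apply (v : Fin (n + 1) → M) :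
    headTail (R := R) n v = v 0 ⊗ₜ[R] exteriorPower.ιMulti R n (fun i => v i.succ) := rfl

/-- The antisymmetrised splitting. -/
def comult : ↥(⋀[R]^(n + 1) M) →ₗ[R] M ⊗[R] ↥(⋀[R]^n M) :=
  exteriorPower.alternatingMapLinearEquiv (MultilinearMap.alternatization (headTail n))

theorem comult_ιMulti (v : Fin (n + 1) → M) : comult n (exteriorPower.ιMulti R (n + 1) v) =
    ∑ σ : Equiv.Perm (Fin (n + 1)), Equiv.Perm.sign σ • headTail (R := R) n (fun i => v (σ i)) := by
  rw [comult, exteriorPower.alternatingMapLinearEquiv_apply_ιMulti, MultilinearMap.alternatization_apply]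
  rfl

theorem wedgeMul_comult (x : ↥(⋀[R]^(n + 1) M)) :
    wedgeMul n (comult n x) = ((n + 1).factorial : R) • x := by
  induction x using KoszShLib.extPow_induction with
  | hι v =>
    rw [comult_ιMulti, map_sum]
    have h : ∀ σ : Equiv.Perm (Fin (n + 1)),
        wedgeMul n (Equiv.Perm.sign σ • headTail (R := R) n (fun i => v (σ i))) =
          exteriorPower.ιMulti R (n + 1) v := fun σ => by
      rw [Units.smul_def, map_zsmul, headTail_apply, wedgeMul_tmul]
      rw [show Matrix.vecCons (v (σ 0)) (fun i => v (σ i.succ)) = v ∘ σ from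
        funext fun i => by cases i using Fin.cases <;> simp]
      rw [AlternatingMap.map_perm, ← Units.smul_def, smul_smul, Int.units_mul_self, one_smul]
    rw [Finset.sum_congr rfl fun σ _ => h σ, Finset.sum_const, Finset.card_univ, Fintype.card_perm, Fintype.card_fin,
      Nat.cast_smul_eq_nsmul]
  | h0 => simp
  | hadd a b ha hb => rw [map_add, map_add, ha, hb, smul_add]
  | hsmul r a ha => rw [map_smul, map_smul, ha, smul_comm]

end module

variable {X : Scheme.{u}}

/-- `⋀^{n+1} E` is a direct summand of `E ⊗ ⋀^n E` when `(n+1)!` is invertible. -/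
theorem exists_wedge_retract {E L L' : X.Modules} [Coh.IsQCoh E] [Coh.IsQCoh L] {n : ℕ}
    (hL : ExtPow.IsExtPow n E L) (hL' : ExtPow.IsExtPow (n + 1) E L')
    (hu : ∀ U : X.Opens, IsUnit ((n + 1).factorial : Γ(X, U))) :
    ∃ (w : tmod E L ⟶ L') (s : L' ⟶ tmod E L), s ≫ w = 𝟙 L' := by
  classical
  obtain ⟨a, ha⟩ := hL
  obtain ⟨b, hb⟩ := hL'
  let aL : ∀ U : X.affineOpens, Γ(L, U.1) ≃ₗ[Γ(X, U.1)] ↥(⋀[Γ(X, U.1)]^n Γ(E, U.1)) := a
  let bL : ∀ U : X.affineOpens, Γ(L', U.1) ≃ₗ[Γ(X, U.1)] ↥(⋀[Γ(X, U.1)]^(n + 1) Γ(E, U.1)) := b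
  have ha' : ∀ (U V : X.affineOpens) (h : V.1 ≤ U.1) (e : Fin n → Γ(E, U.1)),
      L.presheaf.map (homOfLE h).op ((aL U).symm (exteriorPower.ιMulti _ n e)) =
        (aL V).symm (exteriorPower.ιMulti _ n fun j => E.presheaf.map (homOfLE h).op (e j)) := ha
  have hb' : ∀ (U V : X.affineOpens) (h : V.1 ≤ U.1) (e : Fin (n + 1) → Γ(E, U.1)),
      L'.presheaf.map (homOfLE h).op ((bL U).symm (exteriorPower.ιMulti _ (n + 1) e)) =
        (bL V).symm (exteriorPower.ιMulti _ (n + 1) fun j => E.presheaf.map (homOfLE h).op (e j)) := hb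
  let β : ∀ U : X.affineOpens, (Γ(E, U.1) ⊗[Γ(X, U.1)] Γ(L, U.1)) ≃ₗ[Γ(X, U.1)] Γ(tmod E L, U.1) := fun U =>
    LinearEquiv.ofBijective (DetLib.betaA E L U.1) (DetLib.bijective_betaA E L U.2)
  have hβ : ∀ (U : X.affineOpens) e l, β U (e ⊗ₜ l) = pairS E L e l := fun U e l => DetLib.betaA_tmul E L U.1 e l
  let c : ∀ U : X.affineOpens, (Γ(E, U.1) ⊗[Γ(X, U.1)] ↥(⋀[Γ(X, U.1)]^n Γ(E, U.1))) ≃ₗ[Γ(X, U.1)] Γ(tmod E L, U.1) :=
    fun U => (TensorProduct.congr (LinearEquiv.refl _ _) (aL U).symm).trans (β U)
  have hc : ∀ (U : X.affineOpens) e z, c U (e ⊗ₜ z) = pairS E L e ((aL U).symm z) := fun U e z => hβ U e _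
  obtain ⟨w, hw⟩ := KoszShLib.exists_hom_of_affine (M := tmod E L) (N := L')
    (fun U => (bL U).symm.toLinearMap ∘ₗ wedgeMul n ∘ₗ (c U).symm.toLinearMap) (fun V W hVW t => by
      obtain ⟨z, rfl⟩ := (c W).surjective t
      induction z using TensorProduct.induction_on with
      | zero => simp only [map_zero]
      | add x y hx hy => simp only [map_add] at hx hy ⊢; rw [hx, hy]
      | tmul e l =>
        induction l using KoszShLib.extPow_induction with
        | hι v =>
          rw [hc, res_pairS, ha' W V hVW, ← hc]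
          simp only [LinearMap.coe_comp, LinearEquiv.coe_coe, Function.comp_apply, LinearEquiv.symm_apply_apply]
          rw [← hc W]
          simp only [LinearEquiv.symm_apply_apply]
          rw [wedgeMul_tmul, wedgeMul_tmul, hb' W V hVW]
          refine congrArg _ (congrArg _ (funext fun i => ?_))
          cases i using Fin.cases <;> simp
        | h0 => simp only [TensorProduct.tmul_zero, map_zero]
        | hadd x y hx hy => simp only [TensorProduct.tmul_add, map_add] at hx hy ⊢; rw [hx, hy]
        | hsmul r x hx => simp only [TensorProduct.tmul_smul, map_smul, Scheme.Modules.map_smul] at hx ⊢; rw [hx])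
  obtain ⟨s, hs⟩ := KoszShLib.exists_hom_of_affine (M := L') (N := tmod E L)
    (fun U => (((hu U.1).unit⁻¹ : Γ(X, U.1)ˣ) : Γ(X, U.1)) •
      ((c U).toLinearMap ∘ₗ comult n ∘ₗ (bL U).toLinearMap)) (fun V W hVW t => by
      obtain ⟨z, rfl⟩ := (bL W).symm.surjective t
      induction z using KoszShLib.extPow_induction with
      | hι v =>
        simp only [LinearMap.smul_apply, LinearMap.coe_comp, LinearEquiv.coe_coe, Function.comp_apply,
          LinearEquiv.apply_symm_apply, Scheme.Modules.map_smul]
        rw [hb' W V hVW, LinearEquiv.apply_symm_apply, comult_ιMulti, comult_ιMulti]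
        refine congrArg₂ (· • ·) ?_ ?_
        · refine ((hu V.1).mul_left_cancel ?_).symm
          rw [IsUnit.mul_val_inv, ← map_natCast (X.presheaf.map (homOfLE hVW).op).hom, ← map_mul,
            IsUnit.mul_val_inv, map_one]
        · simp only [map_sum, Units.smul_def, map_zsmul]
          refine Finset.sum_congr rfl fun σ _ => congrArg _ ?_
          rw [headTail_apply, headTail_apply, hc, hc, res_pairS, ha' W V hVW]
      | h0 => simp only [map_zero]
      | hadd x y hx hy => simp only [map_add, hx, hy]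
      | hsmul r x hx => simp only [map_smul, Scheme.Modules.map_smul, hx])
  refine ⟨w, s, KoszShLib.hom_ext_affine _ _ fun U t => ?_⟩
  show w.app U.1 (s.app U.1 t) = t
  rw [hs, hw]
  simp only [LinearMap.smul_apply, LinearMap.coe_comp, LinearEquiv.coe_coe, Function.comp_apply, map_smul,
    LinearEquiv.symm_apply_apply, wedgeMul_comult]
  rw [smul_smul, IsUnit.val_inv_mul, one_smul]

end Groth.Agent.QuadricLib
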