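import Groth.Agent.QuadricLib.Reg
import Groth.Agent.QuadricLib.Wedge
import Groth.Agent.KVbLib.Rank
import Groth.Agent.KVbLib.Lam

/-!
# Regularity of exterior powers on the quadric
-/

set_option autoImplicit false
set_option backward.isDefEq.respectTransparency false
set_option linter.style.haveILetI false

universe u

open CategoryTheory CategoryTheory.Limits AlgebraicGeometry

noncomputable section

namespace Groth.Agent.QuadricLib

variable {k : Type u} [Field k]

theorem isGG_of_forall {W : (Z k).Modules}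
    (h : ∀ (T : (Z k).Modules) (g : W ⟶ T), (∀ σ : Coh.structureModule (Z k) ⟶ W, σ ≫ g = 0) → g = 0) :
    Curv2.IsGloballyGenerated W := by
  refine ⟨Coh.structureModule (Z k) ⟶ W, Sigma.desc fun σ => σ, Preadditive.epi_of_cancel_zero _ fun {T} g hg => ?_⟩
  refine h T g fun σ => ?_
  have e := congrArg (fun t => Sigma.ι (fun _ : Coh.structureModule (Z k) ⟶ W => Coh.structureModule (Z k)) σ ≫ t) hg
  erw [Sigma.ι_desc_assoc, comp_zero] at e
  exact e

theorem forall_of_isGG {W : (Z k).Modules} (hW : Curv2.IsGloballyGenerated W) {T : (Z k).Modules} (g : W ⟶ T)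
    (h : ∀ σ : Coh.structureModule (Z k) ⟶ W, σ ≫ g = 0) : g = 0 := by
  obtain ⟨ι, p, hp⟩ := hW
  haveI := hp
  refine (cancel_epi p).1 ?_
  rw [comp_zero]
  refine Sigma.hom_ext _ _ fun i => ?_
  rw [comp_zero, ← Category.assoc]
  exact h _

theorem isGG_of_epi {W W' : (Z k).Modules} (p : W ⟶ W') [Epi p] (h : Curv2.IsGloballyGenerated W) :
    Curv2.IsGloballyGenerated W' :=
  isGG_of_forall fun T g hg => (cancel_epi p).1 (by
    rw [comp_zero]
    exact forall_of_isGG h _ fun σ => by rw [← Category.assoc]; exact hg _)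

theorem isGG_tensor {A B : (Z k).Modules} (hA : FlatMod.IsFinLocFree A) (hgA : Curv2.IsGloballyGenerated A)
    (hgB : Curv2.IsGloballyGenerated B) : Curv2.IsGloballyGenerated (CohB1.tensorMod A B) := by
  obtain ⟨N, q, _⟩ := exists_free_cover hA hgA
  haveI : Epi ((CurveLib.tensR B).map q) := (CurveLib.tensR B).map_epi q
  refine isGG_of_forall fun T g hg => (cancel_epi ((CurveLib.tensR B).map q)).1 ?_
  rw [comp_zero]
  refine split_hom_ext (splitFree N B) fun i => ?_
  rw [comp_zero]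
  refine forall_of_isGG hgB _ fun σ => ?_
  rw [← Category.assoc, ← Category.assoc]
  exact hg _

theorem h_of_retract {A B : (Z k).Modules} (s : A ⟶ B) (w : B ⟶ A) (h : s ≫ w = 𝟙 A) (n : ℕ)
    (hB : Subsingleton (Coh.HH (Z k) B n)) : Subsingleton (Coh.HH (Z k) A n) := by
  refine subsingleton_of_forall_eq 0 fun x => ?_
  rw [← hMap_id (k := k) A n x, ← h, hMap_comp, Subsingleton.elim (CurveLib.hMap (k := k) s n x) 0, map_zero]

theorem reg_structure (a b : ℤ) (u : ℕ) (hu : 0 < u) (ha : a ≤ 0) (hb : b ≤ 0) (hab : a + b = -(u : ℤ)) :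
    Subsingleton (Coh.HH (Z k) (CohB1.tensorMod (Coh.structureModule (Z k)) (L k a b)) u) := by
  refine subsingleton_of_iso (CurveLib.tmodUnit (L k a b)).symm u ?_
  rcases (show u = 1 ∨ u = 2 ∨ 2 < u by omega) with h | h | h
  · subst h
    exact h1_L k a b (by omega) (by omega)
  · subst h
    exact h2_L k a b (by omega)
  · exact subsingleton_big _ h

/-- Global generation passes to the twisted quotient of a tensor product. -/
theorem isGG_step {G M N : (Z k).Modules} (hG : FlatMod.IsFinLocFree G) {p q m n a b : ℤ} (hp : p + m = a)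
    (hq : q + n = b) (hg₁ : Curv2.IsGloballyGenerated (CohB1.tensorMod G (L k p q)))
    (hg₂ : Curv2.IsGloballyGenerated (CohB1.tensorMod M (L k m n)))
    (w : (CurveLib.tensR (L k a b)).obj (CohB1.tensorMod G M) ⟶ (CurveLib.tensR (L k a b)).obj N) [Epi w] :
    Curv2.IsGloballyGenerated (CohB1.tensorMod N (L k a b)) := by
  have hL : FlatMod.IsFinLocFree (L k p q) := isFinLocFree_L p q
  have hA : FlatMod.IsFinLocFree (((DCoh.tensorBi (X := Z k)).obj G).obj (L k p q)) :=
    DCohLib.isFinLocFree_tensor (M := G) (N := L k p q) hG hL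
  have h1 : Curv2.IsGloballyGenerated (CohB1.tensorMod (CohB1.tensorMod G (L k p q)) (CohB1.tensorMod M (L k m n))) :=
    isGG_tensor (A := CohB1.tensorMod G (L k p q)) (B := CohB1.tensorMod M (L k m n)) hA hg₁ hg₂
  let e₁ : CohB1.tensorMod (CohB1.tensorMod G (L k p q)) (CohB1.tensorMod M (L k m n)) ≅
      CohB1.tensorMod (CohB1.tensorMod G M) (CohB1.tensorMod (L k p q) (L k m n)) :=
    AmpleLib.interchange G (L k p q) M (L k m n)
  let e₂ : CohB1.tensorMod (CohB1.tensorMod G M) (CohB1.tensorMod (L k p q) (L k m n)) ≅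
      CohB1.tensorMod (CohB1.tensorMod G M) (L k a b) :=
    AmpleLib.tIso (Iso.refl (CohB1.tensorMod G M)) (LAdd k hp hq)
  have h2 : Curv2.IsGloballyGenerated (CohB1.tensorMod (CohB1.tensorMod G M) (L k a b)) :=
    isGG_of_epi e₂.hom (isGG_of_epi e₁.hom h1)
  exact isGG_of_epi (W := (CurveLib.tensR (L k a b)).obj (CohB1.tensorMod G M))
    (W' := (CurveLib.tensR (L k a b)).obj N) w h2

variable [CharZero k]

theorem isUnit_natCast_section {m : ℕ} (hm : m ≠ 0) (U : (Z k).Opens) : IsUnit (m : Γ(Z k, U)) := by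
  let f : k →+* Γ(Z k, U) := ((Z k).presheaf.map (homOfLE (le_top : U ≤ ⊤)).op).hom.comp
    (Coh.toGlobal (Z k ↘ Spec (CommRingCat.of k)))
  rw [← map_natCast f m]
  exact (isUnit_iff_ne_zero.2 (Nat.cast_ne_zero.2 hm)).map f

open W4c3multigrregular in
/-- Exterior powers of a regular globally generated bundle are regular. -/
theorem isBiReg_extPow {G : (Z k).Modules} (hG : FlatMod.IsFinLocFree G) (p q : ℤ)
    (hreg : IsBiReg 1 1 k G p q) (hgg : Curv2.IsGloballyGenerated (twistBi 1 1 k G p q)) :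
    ∀ (j : ℕ) (L' : (Z k).Modules), ExtPow.IsExtPow j G L' →
      IsBiReg 1 1 k L' (j * p) (j * q) ∧ Curv2.IsGloballyGenerated (twistBi 1 1 k L' (j * p) (j * q)) := by
  intro j
  induction j with
  | zero =>
    intro L' hL'
    obtain ⟨e⟩ := DetLib.nonempty_iso_of_isExtPow hL' (KVb.isExtPow_zero G)
    refine ⟨fun u₁ u₂ hu => ?_, ?_⟩
    · exact subsingleton_of_iso (AmpleLib.tIso e.symm (Iso.refl _)) _
        (reg_structure (((0 : ℕ) : ℤ) * p - (u₁ : ℤ)) (((0 : ℕ) : ℤ) * q - (u₂ : ℤ)) (u₁ + u₂) hu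
          (by simp) (by simp) (by push_cast; ring))
    · let e' : Coh.structureModule (Z k) ≅ twistBi 1 1 k L' (((0 : ℕ) : ℤ) * p) (((0 : ℕ) : ℤ) * q) :=
        (LZero k).symm ≪≫ eqToIso (by simp) ≪≫ (CurveLib.tmodUnit (L k (((0 : ℕ) : ℤ) * p) (((0 : ℕ) : ℤ) * q))).symm ≪≫
          AmpleLib.tIso e.symm (Iso.refl _)
      exact isGG_of_epi e'.hom (isGG_of_forall fun T g hg => by simpa using hg (𝟙 _))
  | succ j ih =>
    intro L' hL'
    obtain ⟨M, hM, hjM⟩ := KVb.hasExt j G hG
    obtain ⟨hr, hg⟩ := ih M hjM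
    haveI := (PullbackMod.isQCoh_and_isFP_of_isFinLocFree G hG).1
    haveI := (PullbackMod.isQCoh_and_isFP_of_isFinLocFree M hM).1
    obtain ⟨w, s, hsw⟩ := exists_wedge_retract hjM hL' (isUnit_natCast_section (Nat.factorial_ne_zero _))
    have hT := isBiReg_tensor hG hM p q (j * p) (j * q) hreg hr hgg hg
    have hsw' : ∀ a b : ℤ, (CurveLib.tensR (L k a b)).map s ≫ (CurveLib.tensR (L k a b)).map w = 𝟙 _ := fun a b => by
      rw [← Functor.map_comp, hsw, CategoryTheory.Functor.map_id]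
    have hp : p + (j : ℤ) * p = ((j + 1 : ℕ) : ℤ) * p := by push_cast; ring
    have hq : q + (j : ℤ) * q = ((j + 1 : ℕ) : ℤ) * q := by push_cast; ring
    refine ⟨fun u₁ u₂ hu => ?_, ?_⟩
    · have h := hT u₁ u₂ hu
      rw [hp, hq] at h
      exact h_of_retract _ _ (hsw' _ _) _ h
    · haveI : IsSplitEpi ((CurveLib.tensR (L k (((j + 1 : ℕ) : ℤ) * p) (((j + 1 : ℕ) : ℤ) * q))).map w) :=
        ⟨⟨⟨_, hsw' _ _⟩⟩⟩
      unfold twistBi lineBundle at hgg hg ⊢
      exact isGG_step hG hp hq hgg hg ((CurveLib.tensR (L k (((j + 1 : ℕ) : ℤ) * p) (((j + 1 : ℕ) : ℤ) * q))).map w)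

end Groth.Agent.QuadricLib
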