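import Groth.Agent.QuadricLib.Quadric
import Groth.Agent.GenFreeLocus.Functor

/-!
# The kernel of a matrix of linear forms on the quadric
-/

set_option autoImplicit false
set_option backward.isDefEq.respectTransparency false
set_option linter.style.haveILetI false

universe u

open CategoryTheory CategoryTheory.Limits AlgebraicGeometry

noncomputable section

namespace Groth.Agent.QuadricLib

variable (k : Type u) [Field k]

/-- A split of a module isomorphic to a sum of copies. -/
def splitCopies {N : (Z k).Modules} {r : ℕ} {a b : ℤ} (e : N ≅ ∐ fun _ : Fin r => L k a b) :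
    Split (fun _ : Fin r => L k a b) N :=
  (sigmaSplit _).ofIso e

variable {k}

theorem kernel_vanishing {r : ℕ} (hr : 2 ≤ r) {Q₁ Q₂ P : (Z k).Modules}
    (e₁ : Q₁ ≅ ∐ fun _ : Fin r => L k 1 0) (e₂ : Q₂ ≅ ∐ fun _ : Fin r => L k 0 1)
    (eP : P ≅ ∐ fun _ : Fin r => L k 1 1) (m : Q₁ ⊞ Q₂ ⟶ P) [Epi m]
    (h0 : Function.Surjective (CurveLib.hMap (k := k) m 0)) :
    Subsingleton (Coh.HH (Z k) (kernel m) 0) ∧ Subsingleton (Coh.HH (Z k) (kernel m) 1) ∧
      Subsingleton (Coh.HH (Z k) (CohB1.tensorMod (kernel m) (L k (-2) (-2))) 2) ∧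
      ∀ t : ℤ, Subsingleton (Coh.HH (Z k) (CohB1.tensorMod (kernel m) (L k (2 * t) (2 * t))) 1) := by
  classical
  let sQ := (splitCopies k e₁).biprod (splitCopies k e₂)
  let sP := splitCopies k eP
  have hP : ∀ x, PullbackMod.FreeAt r P x := fun x =>
    GenFreeLocus.freeAt_of_iso eP.symm (CurveLib.freeAt_of_isFinLocFreeOfRank (rank_sigma (isInvertible_L k 1 1) r) x)
  let S : ShortComplex (Z k).Modules := ShortComplex.mk (kernel.ι m) m (kernel.condition m)
  have hS : S.ShortExact := { exact := ShortComplex.exact_of_f_is_kernel S (kernelIsKernel m) }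
  let c : Fin r ⊕ Fin r → ℤ := Sum.elim (fun _ => 1) (fun _ => 0)
  let d : Fin r ⊕ Fin r → ℤ := Sum.elim (fun _ => 0) (fun _ => 1)
  let eQ : ∀ i, Sum.elim (fun _ : Fin r => L k 1 0) (fun _ : Fin r => L k 0 1) i ≅ L k (c i) (d i) :=
    fun i => match i with
      | Sum.inl _ => Iso.refl _
      | Sum.inr _ => Iso.refl _
  have hQ : ∀ (a b : ℤ) (n : ℕ), Subsingleton (Coh.HH (Z k) (L k (1 + a) (0 + b)) n) →
      Subsingleton (Coh.HH (Z k) (L k (0 + a) (1 + b)) n) →
      Subsingleton (Coh.HH (Z k) (CohB1.tensorMod (Q₁ ⊞ Q₂) (L k a b)) n) := fun a b n u v =>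
    (splitTensor k sQ a b c d eQ).subsingleton (k := k) n fun i => by
      rcases i with i | i
      · exact u
      · exact v
  have hPv : ∀ (a b : ℤ) (n : ℕ), Subsingleton (Coh.HH (Z k) (L k (1 + a) (1 + b)) n) →
      Subsingleton (Coh.HH (Z k) (CohB1.tensorMod P (L k a b)) n) := fun a b n u =>
    (splitTensor k sP a b (fun _ => 1) (fun _ => 1) fun _ => Iso.refl _).subsingleton (k := k) n fun _ => u
  have hST : ∀ a b : ℤ, (S.map (CurveLib.tensR (L k a b))).ShortExact := fun a b =>
    CurveLib.shortExact_tensR hS (CurveLib.freeAt_one_of_isInvertible (isInvertible_L k a b))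
  have hF1 : Subsingleton (Coh.HH (Z k) S.X₁ 1) := by
    haveI : Subsingleton (Coh.HH (Z k) S.X₂ (0 + 1)) := sQ.subsingleton (k := k) 1 fun i => by
      rcases i with i | i
      · exact h1_L k 1 0 (by omega) (by omega)
      · exact h1_L k 0 1 (by omega) (by omega)
    exact subsingleton_left (k := k) hS 0 h0
  refine ⟨?_, hF1, ?_, fun t => ?_⟩
  · have hfin : ∀ (a b : ℕ), Module.Finite k (Coh.HH (Z k) (L k a b) 0) := fun a b =>
      Module.finite_of_finrank_pos (by rw [finrank_h0_L]; positivity)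
    haveI := hfin 1 0
    haveI := hfin 0 1
    haveI := hfin 1 1
    haveI : ∀ i, Module.Finite k (Coh.HH (Z k) (Sum.elim (fun _ : Fin r => L k 1 0) (fun _ : Fin r => L k 0 1) i) 0) :=
      fun i => by
        rcases i with i | i
        · exact hfin 1 0
        · exact hfin 0 1
    haveI : Module.Finite k (Coh.HH (Z k) (Q₁ ⊞ Q₂) 0) := Module.Finite.equiv (sQ.hhEquiv (k := k) 0).symm
    haveI : Module.Finite k (Coh.HH (Z k) P 0) := Module.Finite.equiv (sP.hhEquiv (k := k) 0).symm
    have n1 : Module.finrank k (Coh.HH (Z k) (Q₁ ⊞ Q₂) 0) = 4 * r := by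
      have a := finrank_h0_L k 1 0
      have b := finrank_h0_L k 0 1
      rw [(sQ.hhEquiv (k := k) 0).finrank_eq, Module.finrank_pi_fintype, Fintype.sum_sum_type]
      refine (congrArg₂ (· + ·) (Finset.sum_const_nat (m := 2) fun _ _ => a) (Finset.sum_const_nat (m := 2) fun _ _ => b)).trans ?_
      simp only [Finset.card_univ, Fintype.card_fin]
      omega
    have n2 : Module.finrank k (Coh.HH (Z k) P 0) = 4 * r := by
      have a := finrank_h0_L k 1 1
      rw [(sP.hhEquiv (k := k) 0).finrank_eq, Module.finrank_pi_fintype]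
      refine (Finset.sum_const_nat (m := 4) fun _ _ => a).trans ?_
      simp only [Finset.card_univ, Fintype.card_fin]
      omega
    have hinj : Function.Injective (CurveLib.hMap (k := k) m 0) :=
      (LinearMap.injective_iff_surjective_of_finrank_eq_finrank (n1.trans n2.symm)).2 h0
    refine subsingleton_of_forall_eq 0 fun x => ?_
    apply CurveLib.hMap_f_zero_injective (k := k) hS
    rw [map_zero]
    apply hinj
    rw [map_zero, ← hMap_comp]
    show CurveLib.hMap (k := k) (kernel.ι m ≫ m) 0 x = 0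
    rw [kernel.condition, hMap_zero]
  · haveI : Subsingleton (Coh.HH (Z k) (S.map (CurveLib.tensR (L k (-2) (-2)))).X₂ (1 + 1)) :=
      hQ (-2) (-2) 2 (h2_L k _ _ (by omega)) (h2_L k _ _ (by omega))
    haveI : Subsingleton (Coh.HH (Z k) (S.map (CurveLib.tensR (L k (-2) (-2)))).X₃ 1) :=
      hPv (-2) (-2) 1 (h1_L k _ _ (by omega) (by omega))
    exact subsingleton_left (k := k) (hST (-2) (-2)) 1 (Function.surjective_to_subsingleton _)
  · haveI : Subsingleton (Coh.HH (Z k) (S.map (CurveLib.tensR (L k (2 * t) (2 * t)))).X₂ (0 + 1)) :=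
      hQ _ _ 1 (h1_L k _ _ (by omega) (by omega)) (h1_L k _ _ (by omega) (by omega))
    refine subsingleton_left (k := k) (hST (2 * t) (2 * t)) 0 ?_
    by_cases ht : 0 ≤ t
    · obtain ⟨n, hn⟩ := Int.eq_ofNat_of_zero_le (show 0 ≤ 2 * t by omega)
      exact (surjAt_L sP hP h0 n n).of_iso (eqToIso (by rw [hn]))
    · haveI : Subsingleton (Coh.HH (Z k) (S.map (CurveLib.tensR (L k (2 * t) (2 * t)))).X₃ 0) :=
        hPv _ _ 0 (h0_L_eq_zero k _ _ (by omega))
      exact Function.surjective_to_subsingleton _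

end Groth.Agent.QuadricLib
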