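import Groth.Agent.QuadricLib.Split
import Groth.Agent.K0PnLib.Euler
import Groth.Agent.AmpleLib.Pullback
import Groth.Agent.PicProjLib.Pic
import Groth.Agent.InvExt.Main
import Groth.Agent.S1071
import Groth.Agent.S7635
import Groth.Agent.S4466
import Groth.Agent.DCohLib.Pullback
import Groth.Prelude.Def_W4c3multigrregularBiProj

/-!
# Line bundles on the quadric surface
-/

set_option autoImplicit false
set_option backward.isDefEq.respectTransparency false
set_option linter.style.haveILetI false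

universe u

open CategoryTheory CategoryTheory.Limits AlgebraicGeometry
open scoped TensorProduct

noncomputable section

namespace Groth.Agent.QuadricLib

variable (k : Type u) [Field k]

/-- `ℙ¹ × ℙ¹`. -/
abbrev Z : Scheme.{u} := W4c3multigrregular.biProj 1 1 k

local notation "O(" d ")" => Twist.twistProjSpace 1 k d

/-- The first projection. -/
abbrev p₁ : Z k ⟶ CohB1.ProjSpace 1 k :=
  pullback.fst (CohB1.ProjSpace.toSpec 1 k) (CohB1.ProjSpace.toSpec 1 k)

/-- The second projection. -/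
abbrev p₂ : Z k ⟶ CohB1.ProjSpace 1 k :=
  pullback.snd (CohB1.ProjSpace.toSpec 1 k) (CohB1.ProjSpace.toSpec 1 k)

/-- `O(a, b)`. -/
abbrev L (a b : ℤ) : (Z k).Modules :=
  CohB1.tensorMod ((Scheme.Modules.pullback (p₁ k)).obj (O(a))) ((Scheme.Modules.pullback (p₂ k)).obj (O(b)))

theorem isInvertible_L (a b : ℤ) : PicF.IsInvertible (L k a b) :=
  AmpleLib.isInvertible_tensor (AmpleLib.isInvertible_pullback _ (PicProjLib.isInvertible_twist (n := 1) (R := k) a))
    (AmpleLib.isInvertible_pullback _ (PicProjLib.isInvertible_twist (n := 1) (R := k) b))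

/-- The Künneth formula. -/
theorem nonempty_kunneth (a b : ℤ) (n : ℕ) :
    Nonempty ((Π p : Fin (n + 1), Coh.HH (CohB1.ProjSpace 1 k) (O(a)) (p : ℕ) ⊗[k]
      Coh.HH (CohB1.ProjSpace 1 k) (O(b)) (n - (p : ℕ))) ≃ₗ[k] Coh.HH (Z k) (L k a b) n) := by
  haveI : IsProper (CohB1.ProjSpace 1 k ↘ Spec (CommRingCat.of k)) := CompleteCurve.isProper_toSpec 1 k
  haveI : CompactSpace ↥(CohB1.ProjSpace 1 k) :=
    (quasiCompact_iff_compactSpace (CohB1.ProjSpace 1 k ↘ Spec (CommRingCat.of k))).1 inferInstance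
  exact Groth.Agent.S7635.result k (CohB1.ProjSpace 1 k) (CohB1.ProjSpace 1 k) (O(a))
    (InvExt.isQCoh_of_isInvertible (PicProjLib.isInvertible_twist (n := 1) (R := k) a)) (O(b))
    (InvExt.isQCoh_of_isInvertible (PicProjLib.isInvertible_twist (n := 1) (R := k) b)) n

/-- Vanishing by the Künneth formula. -/
theorem subsingleton_L (a b : ℤ) (n : ℕ)
    (h : ∀ p ≤ n, Subsingleton (Coh.HH (CohB1.ProjSpace 1 k) (O(a)) p) ∨
      Subsingleton (Coh.HH (CohB1.ProjSpace 1 k) (O(b)) (n - p))) :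
    Subsingleton (Coh.HH (Z k) (L k a b) n) := by
  obtain ⟨e⟩ := nonempty_kunneth k a b n
  haveI : ∀ p : Fin (n + 1), Subsingleton (Coh.HH (CohB1.ProjSpace 1 k) (O(a)) (p : ℕ) ⊗[k]
      Coh.HH (CohB1.ProjSpace 1 k) (O(b)) (n - (p : ℕ))) := fun p => by
    refine subsingleton_of_forall_eq 0 fun x => ?_
    induction x using TensorProduct.induction_on with
    | zero => rfl
    | add x y hx hy => rw [hx, hy, add_zero]
    | tmul x y =>
      rcases h p (Nat.lt_succ_iff.1 p.2) with h' | h'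
      · rw [Subsingleton.elim x 0, TensorProduct.zero_tmul]
      · rw [Subsingleton.elim y 0, TensorProduct.tmul_zero]
  exact e.symm.toEquiv.subsingleton

theorem h1_L (a b : ℤ) (h : a < 0 ∨ -1 ≤ b) (h' : -1 ≤ a ∨ b < 0) :
    Subsingleton (Coh.HH (Z k) (L k a b) 1) :=
  subsingleton_L k a b 1 fun p hp => by
    interval_cases p
    · rcases h with h | h
      · exact Or.inl (ProjTwist.subsingleton_HH 1 k a 0 (by omega) (by omega))
      · exact Or.inr (ProjTwist.subsingleton_HH 1 k b 1 (by omega) (by omega))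
    · rcases h' with h' | h'
      · exact Or.inl (ProjTwist.subsingleton_HH 1 k a 1 (by omega) (by omega))
      · exact Or.inr (ProjTwist.subsingleton_HH 1 k b 0 (by omega) (by omega))

theorem h2_L (a b : ℤ) (h : -1 ≤ a ∨ -1 ≤ b) : Subsingleton (Coh.HH (Z k) (L k a b) 2) :=
  subsingleton_L k a b 2 fun p hp => by
    interval_cases p
    · exact Or.inr (ProjTwist.subsingleton_HH 1 k b 2 (by omega) (by omega))
    · rcases h with h | h
      · exact Or.inl (ProjTwist.subsingleton_HH 1 k a 1 (by omega) (by omega))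
      · exact Or.inr (ProjTwist.subsingleton_HH 1 k b 1 (by omega) (by omega))
    · exact Or.inl (ProjTwist.subsingleton_HH 1 k a 2 (by omega) (by omega))

theorem h0_L_eq_zero (a b : ℤ) (h : a < 0 ∨ b < 0) : Subsingleton (Coh.HH (Z k) (L k a b) 0) :=
  subsingleton_L k a b 0 fun p hp => by
    interval_cases p
    rcases h with h | h
    · exact Or.inl (ProjTwist.subsingleton_HH 1 k a 0 (by omega) (by omega))
    · exact Or.inr (ProjTwist.subsingleton_HH 1 k b 0 (by omega) (by omega))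

theorem finrank_h0_P1 (a : ℕ) : Module.finrank k (Coh.HH (CohB1.ProjSpace 1 k) (O((a : ℤ))) 0) = a + 1 := by
  obtain ⟨e⟩ := ProjTwist.nonempty_H0 1 k a
  rw [e.finrank_eq, Groth.Agent.S4466.finrank_forms k 1 a, Nat.choose_one_right]

theorem finrank_h0_L (a b : ℕ) :
    Module.finrank k (Coh.HH (Z k) (L k a b) 0) = (a + 1) * (b + 1) := by
  haveI : Module.Finite k (Coh.HH (CohB1.ProjSpace 1 k) (O((a : ℤ))) 0) :=
    Module.finite_of_finrank_pos (by rw [finrank_h0_P1]; omega)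
  haveI : Module.Finite k (Coh.HH (CohB1.ProjSpace 1 k) (O((b : ℤ))) 0) :=
    Module.finite_of_finrank_pos (by rw [finrank_h0_P1]; omega)
  obtain ⟨e⟩ := nonempty_kunneth k a b 0
  haveI : ∀ p : Fin (0 + 1), Module.Finite k (Coh.HH (CohB1.ProjSpace 1 k) (O((a : ℤ))) (p : ℕ) ⊗[k]
      Coh.HH (CohB1.ProjSpace 1 k) (O((b : ℤ))) (0 - (p : ℕ))) := fun p => by
    fin_cases p
    exact inferInstanceAs (Module.Finite k (Coh.HH (CohB1.ProjSpace 1 k) (O((a : ℤ))) 0 ⊗[k]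
      Coh.HH (CohB1.ProjSpace 1 k) (O((b : ℤ))) 0))
  rw [← e.finrank_eq, Module.finrank_pi_fintype, Fin.sum_univ_one, Module.finrank_tensorProduct]
  exact congrArg₂ (· * ·) (finrank_h0_P1 k a) (finrank_h0_P1 k b)

/-- `O(a, b) ⊗ O(c, d) = O(a + c, b + d)`. -/
def LAdd {a b c d a' b' : ℤ} (ha : a + c = a') (hb : b + d = b') :
    CohB1.tensorMod (L k a b) (L k c d) ≅ L k a' b' :=
  AmpleLib.interchange _ _ _ _ ≪≫ AmpleLib.tIso
    ((AmpleLib.pullTensor (p₁ k) _ _).symm ≪≫ (Scheme.Modules.pullback (p₁ k)).mapIso (K0PnLib.twistAddIso k 1 ha))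
    ((AmpleLib.pullTensor (p₂ k) _ _).symm ≪≫ (Scheme.Modules.pullback (p₂ k)).mapIso (K0PnLib.twistAddIso k 1 hb))

/-- `O(0, 0)` is trivial. -/
def LZero : L k 0 0 ≅ Coh.structureModule (Z k) :=
  AmpleLib.tIso
    ((Scheme.Modules.pullback (p₁ k)).mapIso (asIso (ProjCoh.unitToTwist (CohB1.polyGrading 1 k))).symm ≪≫
      ProjCoh.pullUnit (p₁ k))
    ((Scheme.Modules.pullback (p₂ k)).mapIso (asIso (ProjCoh.unitToTwist (CohB1.polyGrading 1 k))).symm ≪≫
      ProjCoh.pullUnit (p₂ k)) ≪≫ CurveLib.tmodUnit (Coh.structureModule (Z k))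

theorem rank_sigma {X : Scheme.{u}} {M : X.Modules} (hM : PicF.IsInvertible M) (n : ℕ) :
    FlatMod.IsFinLocFreeOfRank n (∐ fun _ : Fin n => M) := fun x => by
  obtain ⟨U, hx, ⟨e⟩⟩ := hM x
  haveI : PreservesColimitsOfSize.{0, 0} (Scheme.Modules.restrictFunctor U.ι) :=
    (Scheme.Modules.restrictAdjunction U.ι).leftAdjoint_preservesColimits
  exact ⟨U, hx, ⟨PreservesCoproduct.iso (Scheme.Modules.restrictFunctor U.ι) _ ≪≫ Sigma.mapIso fun _ => e⟩⟩

/-- The Koszul sequence of `ℙ¹`. -/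
theorem exists_seq_P1 (a : ℤ) : ∃ (S : ShortComplex (CohB1.ProjSpace 1 k).Modules),
    S.ShortExact ∧ Nonempty (S.X₁ ≅ O(a)) ∧ Nonempty (Split (fun _ : Fin 2 => O(a + 1)) S.X₂) ∧
      Nonempty (S.X₃ ≅ O(a + 2)) := by
  obtain ⟨C, hC, hX, hz⟩ := Groth.Agent.S1071.result 1 k a
  obtain ⟨e₀⟩ := hX 0 (by omega)
  obtain ⟨e₁⟩ := hX 1 (by omega)
  obtain ⟨e₂⟩ := hX 2 (by omega)
  let S : ShortComplex (CohB1.ProjSpace 1 k).Modules := ShortComplex.mk (C.d 0 1) (C.d 1 2) (C.d_comp_d _ _ _)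
  have hm : Mono S.f := by
    have h := (C.exactAt_iff' (-1) 0 1 (by simp) (by simp)).1 (hC 0)
    exact h.mono_g ((hz (-1) (Or.inl (by omega))).eq_of_src _ _)
  have he : Epi S.g := by
    have h := (C.exactAt_iff' 1 2 3 (by simp) (by simp)).1 (hC 2)
    exact h.epi_f ((hz 3 (Or.inr (by omega))).eq_of_tgt _ _)
  refine ⟨S, ⟨(C.exactAt_iff' 0 1 2 (by simp) (by simp)).1 (hC 1)⟩, ⟨e₀ ≪≫ ?_⟩,
    ⟨(((sigmaSplit _).ofIso e₁).pieces fun _ => Iso.refl _)⟩, ⟨e₂ ≪≫ ?_⟩⟩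
  · exact coproductUniqueIso (fun _ : Fin 1 => O(a + ((0 : ℕ) : ℤ))) ≪≫ eqToIso (by simp)
  · exact coproductUniqueIso (fun _ : Fin 1 => O(a + ((2 : ℕ) : ℤ))) ≪≫ eqToIso (by simp)

/-- A Koszul sequence in the first factor. -/
theorem exists_seq_fst (a b : ℤ) : ∃ T : ShortComplex (Z k).Modules, T.ShortExact ∧
    Nonempty (T.X₁ ≅ L k a b) ∧ Nonempty (Split (fun _ : Fin 2 => L k (a + 1) b) T.X₂) ∧
      Nonempty (T.X₃ ≅ L k (a + 2) b) := by
  obtain ⟨S, hS, ⟨e₁⟩, ⟨s₂⟩, ⟨e₃⟩⟩ := exists_seq_P1 k a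
  let G := CurveLib.tensR ((Scheme.Modules.pullback (p₂ k)).obj (O(b)))
  have h₃ : FlatMod.IsFlat S.X₃ := fun x => PullbackMod.isFlat_of_isFinLocFree _
    (DCohLib.isFinLocFree_of_retract e₃.hom e₃.inv e₃.hom_inv_id
      (fun y => by
        obtain ⟨U, hy, hU⟩ := CurveLib.isFinLocFreeOfRank_one (PicProjLib.isInvertible_twist (n := 1) (R := k) (a + 2)) y
        exact ⟨U, 1, hy, hU⟩)) x
  refine ⟨(S.map (Scheme.Modules.pullback (p₁ k))).map G,
    CurveLib.shortExact_tensR (DCohLib.shortExact_pullback_of_isFlat (p₁ k) S hS h₃)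
      (CurveLib.freeAt_one_of_isInvertible (AmpleLib.isInvertible_pullback _ (PicProjLib.isInvertible_twist (n := 1) (R := k) b))),
    ⟨(Scheme.Modules.pullback (p₁ k) ⋙ G).mapIso e₁⟩,
    ⟨(s₂.map (Scheme.Modules.pullback (p₁ k))).map G⟩,
    ⟨(Scheme.Modules.pullback (p₁ k) ⋙ G).mapIso e₃⟩⟩

/-- A Koszul sequence in the second factor. -/
theorem exists_seq_snd (a b : ℤ) : ∃ T : ShortComplex (Z k).Modules, T.ShortExact ∧
    Nonempty (T.X₁ ≅ L k a b) ∧ Nonempty (Split (fun _ : Fin 2 => L k a (b + 1)) T.X₂) ∧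
      Nonempty (T.X₃ ≅ L k a (b + 2)) := by
  obtain ⟨S, hS, ⟨e₁⟩, ⟨s₂⟩, ⟨e₃⟩⟩ := exists_seq_P1 k b
  let G := CurveLib.tensR ((Scheme.Modules.pullback (p₁ k)).obj (O(a)))
  have h₃ : FlatMod.IsFlat S.X₃ := fun x => PullbackMod.isFlat_of_isFinLocFree _
    (DCohLib.isFinLocFree_of_retract e₃.hom e₃.inv e₃.hom_inv_id
      (fun y => by
        obtain ⟨U, hy, hU⟩ := CurveLib.isFinLocFreeOfRank_one (PicProjLib.isInvertible_twist (n := 1) (R := k) (b + 2)) y
        exact ⟨U, 1, hy, hU⟩)) x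
  refine ⟨(S.map (Scheme.Modules.pullback (p₂ k))).map G,
    CurveLib.shortExact_tensR (DCohLib.shortExact_pullback_of_isFlat (p₂ k) S hS h₃)
      (CurveLib.freeAt_one_of_isInvertible (AmpleLib.isInvertible_pullback _ (PicProjLib.isInvertible_twist (n := 1) (R := k) a))),
    ⟨(Scheme.Modules.pullback (p₂ k) ⋙ G).mapIso e₁ ≪≫ AmpleLib.comm _ _⟩,
    ⟨((s₂.map (Scheme.Modules.pullback (p₂ k))).map G).pieces fun _ => AmpleLib.comm _ _⟩,
    ⟨(Scheme.Modules.pullback (p₂ k) ⋙ G).mapIso e₃ ≪≫ AmpleLib.comm _ _⟩⟩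

/-- The tensor product of a sum of copies of `O(c, d)` with `O(a, b)`. -/
def splitTensor {ι : Type} [Fintype ι] [DecidableEq ι] {f : ι → (Z k).Modules} {N : (Z k).Modules}
    (S : Split f N) (a b : ℤ) (c d : ι → ℤ) (e : ∀ i, f i ≅ L k (c i) (d i)) :
    Split (fun i => L k (c i + a) (d i + b)) (CohB1.tensorMod N (L k a b)) :=
  (((S.pieces e).map (CurveLib.tensR (L k a b))).pieces fun i => LAdd k rfl rfl)

variable {k}

/-- Surjectivity on sections propagates to all nonnegative twists. -/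
theorem surjAt_L {Q P : (Z k).Modules} {m : Q ⟶ P} {r : ℕ} (P' : Split (fun _ : Fin r => L k 1 1) P)
    (hP : ∀ x, PullbackMod.FreeAt r P x)
    (h0 : Function.Surjective (CurveLib.hMap (k := k) m 0)) : ∀ a b : ℕ, SurjAt k m (L k a b) := by
  have hv : ∀ a b : ℤ, -1 ≤ a → -1 ≤ b →
      Subsingleton (Coh.HH (Z k) (CohB1.tensorMod P (L k a b)) 1) := fun a b ha hb =>
    (splitTensor k P' a b (fun _ => 1) (fun _ => 1) fun _ => Iso.refl _).subsingleton (k := k) 1
      fun _ => h1_L k _ _ (by omega) (by omega)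
  have h00 : SurjAt k m (L k 0 0) := (SurjAt.of_unit h0).of_iso (LZero k).symm
  have hb : ∀ b : ℕ, SurjAt k m (L k 0 (b : ℤ)) := fun b => by
    induction b with
    | zero => exact h00
    | succ b ih =>
      obtain ⟨T, hT, ⟨e₁⟩, ⟨s₂⟩, ⟨e₃⟩⟩ := exists_seq_snd k 0 ((b : ℤ) - 1)
      haveI : Subsingleton (Coh.HH (Z k) (CohB1.tensorMod P T.X₁) 1) := by
        haveI := hv 0 ((b : ℤ) - 1) (by omega) (by omega)
        exact (hEquiv (k := k) (AmpleLib.tIso (Iso.refl P) e₁) 1).toEquiv.subsingleton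
      have h2 : SurjAt k m T.X₂ := SurjAt.of_split s₂ fun _ => ih.of_iso (eqToIso (by congr 1; omega))
      exact ((SurjAt.step hT hP h2).of_iso e₃).of_iso (eqToIso (by congr 1; push_cast; omega))
  intro a b
  induction a with
  | zero => exact hb b
  | succ a ih =>
    obtain ⟨T, hT, ⟨e₁⟩, ⟨s₂⟩, ⟨e₃⟩⟩ := exists_seq_fst k ((a : ℤ) - 1) b
    haveI : Subsingleton (Coh.HH (Z k) (CohB1.tensorMod P T.X₁) 1) := by
      haveI := hv ((a : ℤ) - 1) b (by omega) (by omega)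
      exact (hEquiv (k := k) (AmpleLib.tIso (Iso.refl P) e₁) 1).toEquiv.subsingleton
    have h2 : SurjAt k m T.X₂ := SurjAt.of_split s₂ fun _ => ih.of_iso (eqToIso (by congr 1; omega))
    exact ((SurjAt.step hT hP h2).of_iso e₃).of_iso (eqToIso (by congr 1; push_cast; omega))

end Groth.Agent.QuadricLib
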