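import Groth.Agent.QuadricLib.Simple
import Groth.Agent.BCLib.Gamma
import Groth.Agent.CurveLib.Inv
import Groth.Agent.EulerIneqLib.Basic
import Groth.Agent.DCohLib.TensorPerf
import Groth.Agent.S10829
import Groth.Agent.S4643

/-!
# Regularity of tensor products on the quadric
-/

set_option autoImplicit false
set_option backward.isDefEq.respectTransparency false
set_option linter.style.haveILetI false

universe u

open CategoryTheory CategoryTheory.Limits AlgebraicGeometry

noncomputable section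

namespace Groth.Agent.QuadricLib

variable {k : Type u} [Field k]

/-- Cohomology above degree two vanishes. -/
theorem subsingleton_big (M : (Z k).Modules) {p : ℕ} (hp : 2 < p) : Subsingleton (Coh.HH (Z k) M p) := by
  haveI := isProper_Z k
  haveI : IsProper (CohB1.ProjSpace.toSpec 1 k) := CompleteCurve.isProper_toSpec 1 k
  haveI := EulerIneqLib.isNoetherian_proper (X := Z k) k
  have hd : topologicalKrullDim ↥(Z k) ≤ (2 : ℕ) := by
    refine le_of_eq ((Groth.Agent.S4643.result (CohB1.ProjSpace.toSpec 1 k) (CohB1.ProjSpace.toSpec 1 k)).trans ?_)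
    rw [Groth.Agent.S10829.result k 1]
    norm_cast
  exact CurveLib.subsingleton_HH_of_dim M hd hp

/-- A quotient of a module without `H²` has no `H²`. -/
theorem h2_of_epi {M N : (Z k).Modules} (p : M ⟶ N) [Epi p] (h : Subsingleton (Coh.HH (Z k) M 2)) :
    Subsingleton (Coh.HH (Z k) N 2) := by
  let S : ShortComplex (Z k).Modules := ShortComplex.mk (kernel.ι p) p (kernel.condition p)
  have hS : S.ShortExact := { exact := ShortComplex.exact_of_f_is_kernel S (kernelIsKernel p) }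
  haveI : Subsingleton (Coh.HH (Z k) S.X₁ (2 + 1)) := subsingleton_big _ (by omega)
  haveI : Subsingleton (Coh.HH (Z k) S.X₂ 2) := h
  exact (surjective_hMap_g (k := k) hS 2).subsingleton

/-- A free module tensored with `D`. -/
def splitFree (N : ℕ) (D : (Z k).Modules) :
    Split (fun _ : Fin N => D) ((CurveLib.tensR D).obj (FlatMod.freeMod (Z k) N)) :=
  ((sigmaSplit fun _ : Fin N => Coh.structureModule (Z k)).map (CurveLib.tensR D)).pieces
    fun _ => CurveLib.tmodUnit D

theorem subsingleton_of_iso {M N : (Z k).Modules} (e : M ≅ N) (n : ℕ) (h : Subsingleton (Coh.HH (Z k) M n)) :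
    Subsingleton (Coh.HH (Z k) N n) :=
  (hEquiv (k := k) e n).symm.toEquiv.subsingleton

/-- The degree two part. -/
theorem h2_tensor {A D : (Z k).Modules} {N : ℕ} (q : FlatMod.freeMod (Z k) N ⟶ A) [Epi q]
    (h : Subsingleton (Coh.HH (Z k) D 2)) : Subsingleton (Coh.HH (Z k) (CohB1.tensorMod A D) 2) := by
  haveI : Epi ((CurveLib.tensR D).map q) := (CurveLib.tensR D).map_epi q
  exact h2_of_epi ((CurveLib.tensR D).map q) ((splitFree N D).subsingleton (k := k) 2 fun _ => h)

/-- The degree one part. -/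
theorem h1_tensor {A B : (Z k).Modules} {N M : ℕ} (q : FlatMod.freeMod (Z k) N ⟶ A) [Epi q]
    (q' : FlatMod.freeMod (Z k) M ⟶ B) [Epi q'] (a b : ℤ)
    (hO : Subsingleton (Coh.HH (Z k) (L k a b) 2))
    (hA : Subsingleton (Coh.HH (Z k) (CohB1.tensorMod A (L k a b)) 1))
    (hB : Subsingleton (Coh.HH (Z k) (CohB1.tensorMod B (L k a b)) 1)) :
    Subsingleton (Coh.HH (Z k) (CohB1.tensorMod A (CohB1.tensorMod B (L k a b))) 1) := by
  let S : ShortComplex (Z k).Modules := ShortComplex.mk (kernel.ι q) q (kernel.condition q)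
  have hS : S.ShortExact := { exact := ShortComplex.exact_of_f_is_kernel S (kernelIsKernel q) }
  have hK : Subsingleton (Coh.HH (Z k) (CohB1.tensorMod S.X₁ (L k a b)) 2) := by
    have hSL := CurveLib.shortExact_tensR hS (CurveLib.freeAt_one_of_isInvertible (isInvertible_L k a b))
    haveI : Subsingleton (Coh.HH (Z k) (S.map (CurveLib.tensR (L k a b))).X₂ (1 + 1)) :=
      (splitFree N (L k a b)).subsingleton (k := k) 2 fun _ => hO
    haveI : Subsingleton (Coh.HH (Z k) (S.map (CurveLib.tensR (L k a b))).X₃ 1) := hA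
    exact subsingleton_left (k := k) hSL 1 (Function.surjective_to_subsingleton _)
  have hKE : Subsingleton (Coh.HH (Z k) (CohB1.tensorMod S.X₁ (CohB1.tensorMod B (L k a b))) 2) :=
    subsingleton_of_iso ((AmpleLib.assoc B S.X₁ (L k a b)).symm ≪≫ AmpleLib.tIso (AmpleLib.comm B S.X₁) (Iso.refl _) ≪≫
      AmpleLib.assoc S.X₁ B (L k a b)) 2 (h2_tensor q' hK)
  let G := CurveLib.tensR (CohB1.tensorMod B (L k a b))
  haveI : PreservesFiniteColimits G := CurveLib.preservesFiniteColimits_tensR _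
  haveI : Epi (G.map q) := G.map_epi q
  have hex : (S.map G).Exact := hS.exact.map_of_epi_of_preservesCokernel G hS.epi_g inferInstance
  let T : ShortComplex (Z k).Modules := ShortComplex.mk (kernel.ι (G.map q)) (G.map q) (kernel.condition _)
  have hT : T.ShortExact := { exact := ShortComplex.exact_of_f_is_kernel T (kernelIsKernel _) }
  haveI : Epi (kernel.lift (S.map G).g (S.map G).f (S.map G).zero) := hex.epi_kernelLift
  haveI : Subsingleton (Coh.HH (Z k) T.X₁ (1 + 1)) :=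
    h2_of_epi (kernel.lift (S.map G).g (S.map G).f (S.map G).zero) hKE
  haveI : Subsingleton (Coh.HH (Z k) T.X₂ 1) :=
    (splitFree N (CohB1.tensorMod B (L k a b))).subsingleton (k := k) 1 fun _ => hB
  exact (surjective_hMap_g (k := k) hT 1).subsingleton

/-- A globally generated bundle is a quotient of a free one. -/
theorem exists_free_cover {W : (Z k).Modules} (hW : FlatMod.IsFinLocFree W) (hgg : Curv2.IsGloballyGenerated W) :
    ∃ (N : ℕ) (q : FlatMod.freeMod (Z k) N ⟶ W), Epi q := by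
  haveI := isProper_Z k
  haveI := EulerIneqLib.isNoetherian_proper (X := Z k) k
  haveI : Module.Finite k (Coh.HH (Z k) W 0) := EulerIneqLib.finite_HH (CurveLib.isCoh_of_isFinLocFree hW) 0
  classical
  let bas := Module.finBasis k (Coh.HH (Z k) W 0)
  let Φ : FlatMod.freeMod (Z k) (Module.finrank k (Coh.HH (Z k) W 0)) ⟶ W :=
    Sigma.desc fun i => DCohLib.secHom W ((RpushLib.h0Γ W).symm (bas i))
  refine ⟨_, Φ, Preadditive.epi_of_cancel_zero _ fun {T} g hg => ?_⟩
  have hb : ∀ i, CurveLib.hMap (k := k) g 0 (bas i) = 0 := fun i => by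
    have h1 : DCohLib.secHom W ((RpushLib.h0Γ W).symm (bas i)) ≫ g = 0 := by
      have h := congrArg (fun t => Sigma.ι (fun _ : Fin _ => Coh.structureModule (Z k)) i ≫ t) hg
      erw [Sigma.ι_desc_assoc, comp_zero] at h
      exact h
    have h2 : g.app ⊤ ((DCohLib.secHom W ((RpushLib.h0Γ W).symm (bas i))).app ⊤ (1 : Γ(Z k, ⊤))) = 0 := by
      have h := congrArg (fun t : Coh.structureModule (Z k) ⟶ T => t.app ⊤ (1 : Γ(Z k, ⊤))) h1
      simpa using h
    rw [DCohLib.secHom_app_one] at h2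
    have h3 := congrArg (RpushLib.h0Γ T) h2
    rw [map_zero, BCLib.h0Γ_natural] at h3
    show Sheaf.H.map ((SheafOfModules.toSheaf (Z k).ringCatSheaf).map g) 0 (bas i) = 0
    simpa using h3
  have hg0 : ∀ σ : Coh.structureModule (Z k) ⟶ W, σ ≫ g = 0 := fun σ => by
    refine DCohLib.hom_unit_ext ((RpushLib.h0Γ T).injective ?_)
    show RpushLib.h0Γ T (g.app ⊤ (σ.app ⊤ (1 : Γ(Z k, ⊤)))) = RpushLib.h0Γ T 0
    rw [BCLib.h0Γ_natural, map_zero]
    show CurveLib.hMap (k := k) g 0 (RpushLib.h0Γ W (σ.app ⊤ (1 : Γ(Z k, ⊤)))) = 0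
    rw [← bas.sum_repr (RpushLib.h0Γ W (σ.app ⊤ (1 : Γ(Z k, ⊤)))), map_sum]
    simp [hb]
  obtain ⟨ι, p, hp⟩ := hgg
  haveI := hp
  refine (cancel_epi p).1 ?_
  rw [comp_zero]
  refine Sigma.hom_ext _ _ fun i => ?_
  rw [comp_zero, ← Category.assoc]
  exact hg0 _

theorem isFinLocFree_L (s t : ℤ) : FlatMod.IsFinLocFree (L k s t) := fun x => by
  obtain ⟨U, hx, hU⟩ := CurveLib.isFinLocFreeOfRank_one (isInvertible_L k s t) x
  exact ⟨U, 1, hx, hU⟩

/-- Twisting twice. -/
def twistTwice (G : (Z k).Modules) {s t a b s' t' : ℤ} (hs : s + a = s') (ht : t + b = t') :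
    CohB1.tensorMod (CohB1.tensorMod G (L k s t)) (L k a b) ≅ CohB1.tensorMod G (L k s' t') :=
  AmpleLib.assoc _ _ _ ≪≫ AmpleLib.tIso (Iso.refl _) (LAdd k hs ht)

/-- Rearranging the twists. -/
def twistPair (G₁ G₂ : (Z k).Modules) {p q m n a b m' n' s t : ℤ} (hm : m + a = m') (hn : n + b = n')
    (hs : p + m' = s) (ht : q + n' = t) :
    CohB1.tensorMod (CohB1.tensorMod G₁ (L k p q)) (CohB1.tensorMod (CohB1.tensorMod G₂ (L k m n)) (L k a b)) ≅
      CohB1.tensorMod (CohB1.tensorMod G₁ G₂) (L k s t) :=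
  AmpleLib.tIso (Iso.refl _) (twistTwice G₂ hm hn) ≪≫ AmpleLib.interchange G₁ (L k p q) G₂ (L k m' n') ≪≫
    AmpleLib.tIso (Iso.refl _) (LAdd k hs ht)

/-- The core of the regularity of a tensor product. -/
theorem reg_core {G₁ G₂ : (Z k).Modules} (hG₁ : FlatMod.IsFinLocFree G₁) (hG₂ : FlatMod.IsFinLocFree G₂)
    (p q m n a b s t : ℤ) (hs : p + (m + a) = s) (ht : q + (n + b) = t) (u : ℕ) (hu : 0 < u)
    (hO : u = 1 → Subsingleton (Coh.HH (Z k) (L k a b) 2))
    (hA : Subsingleton (Coh.HH (Z k) (CohB1.tensorMod G₁ (L k (p + a) (q + b))) u))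
    (hB : Subsingleton (Coh.HH (Z k) (CohB1.tensorMod G₂ (L k (m + a) (n + b))) u))
    (hg₁ : Curv2.IsGloballyGenerated (CohB1.tensorMod G₁ (L k p q)))
    (hg₂ : Curv2.IsGloballyGenerated (CohB1.tensorMod G₂ (L k m n))) :
    Subsingleton (Coh.HH (Z k) (CohB1.tensorMod (CohB1.tensorMod G₁ G₂) (L k s t)) u) := by
  obtain ⟨N, f, _⟩ := exists_free_cover (DCohLib.isFinLocFree_tensor hG₁ (isFinLocFree_L p q)) hg₁
  obtain ⟨M, g, _⟩ := exists_free_cover (DCohLib.isFinLocFree_tensor hG₂ (isFinLocFree_L m n)) hg₂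
  have hA' := subsingleton_of_iso (twistTwice G₁ (rfl : p + a = _) (rfl : q + b = _)).symm u hA
  have hB' := subsingleton_of_iso (twistTwice G₂ (rfl : m + a = _) (rfl : n + b = _)).symm u hB
  refine subsingleton_of_iso (twistPair G₁ G₂ (rfl : m + a = _) (rfl : n + b = _) hs ht) u ?_
  rcases (show u = 1 ∨ u = 2 ∨ 2 < u by omega) with h | h | h
  · subst h
    exact h1_tensor f g a b (hO rfl) hA' hB'
  · subst h
    exact h2_tensor f hB'
  · exact subsingleton_big _ h

open W4c3multigrregular in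
/-- The tensor product of regular globally generated bundles is regular. -/
theorem isBiReg_tensor {G₁ G₂ : (Z k).Modules} (hG₁ : FlatMod.IsFinLocFree G₁) (hG₂ : FlatMod.IsFinLocFree G₂)
    (p q m n : ℤ) (hr₁ : IsBiReg 1 1 k G₁ p q) (hr₂ : IsBiReg 1 1 k G₂ m n)
    (hg₁ : Curv2.IsGloballyGenerated (twistBi 1 1 k G₁ p q))
    (hg₂ : Curv2.IsGloballyGenerated (twistBi 1 1 k G₂ m n)) :
    IsBiReg 1 1 k (CohB1.tensorMod G₁ G₂) (p + m) (q + n) := by
  intro u₁ u₂ hu
  have hA := hr₁ u₁ u₂ hu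
  have hB := hr₂ u₁ u₂ hu
  unfold twistBi lineBundle at hA hB hg₁ hg₂ ⊢
  rw [sub_eq_add_neg p (u₁ : ℤ), sub_eq_add_neg q (u₂ : ℤ)] at hA
  rw [sub_eq_add_neg m (u₁ : ℤ), sub_eq_add_neg n (u₂ : ℤ)] at hB
  exact reg_core hG₁ hG₂ p q m n (-(u₁ : ℤ)) (-(u₂ : ℤ)) _ _ (by omega) (by omega) (u₁ + u₂) hu
    (fun h => h2_L k _ _ (by omega)) hA hB hg₁ hg₂

end Groth.Agent.QuadricLib
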