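import Groth.Agent.QuadricLib.EndScalar

/-!
# Simplicity of a cokernel on the quadric
-/

set_option autoImplicit false
set_option backward.isDefEq.respectTransparency false
set_option linter.style.haveILetI false

universe u

open CategoryTheory CategoryTheory.Limits AlgebraicGeometry

noncomputable section

namespace Groth.Agent.QuadricLib

variable (k : Type u) [Field k]

/-- `O(a, b) ⊗ O(c, d) = O` when `(c, d) = -(a, b)`. -/
def LInv {a b c d : ℤ} (ha : a + c = 0) (hb : b + d = 0) :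
    CohB1.tensorMod (L k a b) (L k c d) ≅ Coh.structureModule (Z k) :=
  LAdd k ha hb ≪≫ LZero k

theorem isProper_Z : IsProper (Z k ↘ Spec (CommRingCat.of k)) := by
  haveI : IsProper (CohB1.ProjSpace.toSpec 1 k) := CompleteCurve.isProper_toSpec 1 k
  show IsProper (pullback.fst (CohB1.ProjSpace.toSpec 1 k) (CohB1.ProjSpace.toSpec 1 k) ≫ CohB1.ProjSpace.toSpec 1 k)
  infer_instance

theorem finrank_structure_Z : Module.finrank k (Coh.HH (Z k) (Coh.structureModule (Z k)) 0) = 1 := by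
  rw [← (hEquiv (k := k) (LZero k) 0).finrank_eq]
  exact finrank_h0_L k 0 0

theorem scalarEnd_L (a b : ℤ) : ScalarEnd k (L k a b) :=
  haveI := isProper_Z k
  scalarEnd_of_inverse (finrank_structure_Z k) (LInv k (c := -a) (d := -b) (by omega) (by omega))

variable {k}

theorem exists_cst_coker [Infinite k] {r : ℕ} {P Q₁ Q₂ : (Z k).Modules}
    (sP : Split (fun _ : Fin r => L k (-1) (-1)) P) (s₁ : Split (fun _ : Fin r => L k (-1) 0) Q₁)
    (s₂ : Split (fun _ : Fin r => L k 0 (-1)) Q₂) (f : P ⟶ Q₁ ⊞ Q₂) [Mono f]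
    (hstab : ∀ (β₁ : Q₁ ≅ Q₁) (β₂ : Q₂ ≅ Q₂) (γ : P ≅ P), γ.hom ≫ f = f ≫ biprod.map β₁.hom β₂.hom →
      ∃ c : k, β₁.hom = cstH k Q₁ c ∧ β₂.hom = cstH k Q₂ c ∧ γ.hom = cstH k P c)
    (φ : cokernel f ⟶ cokernel f) : ∃ c : k, φ = cstH k (cokernel f) c := by
  have hlift : ∀ (a b : ℤ), (-1 ≤ a ∧ a ≤ 0) → (-1 ≤ b ∧ b ≤ 0) →
      ∀ g : L k a b ⟶ cokernel f, ∃ g' : L k a b ⟶ Q₁ ⊞ Q₂, g' ≫ cokernel.π f = g := fun a b ha hb g => by
    obtain ⟨d⟩ := HodgePnLib.nonempty_dd_inverse (LInv k (a := a) (b := b) (c := -a) (d := -b) (by omega) (by omega))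
    refine HodgePnLib.exists_lift_cokernel k (CurveLib.isFinLocFreeOfRank_one (isInvertible_L k a b)) f ?_ g
    exact (((sP.map (CurveLib.tensR (VBLib.DualDeg.dd (L k a b)))).pieces fun _ =>
      AmpleLib.tIso (Iso.refl _) d ≪≫ LAdd k rfl rfl)).subsingleton (k := k) 1
        fun _ => h1_L k _ _ (by omega) (by omega)
  choose g₁ hg₁ using fun i => hlift (-1) 0 ⟨le_rfl, by omega⟩ ⟨by omega, le_rfl⟩
    (s₁.inj i ≫ biprod.inl ≫ cokernel.π f ≫ φ)
  choose g₂ hg₂ using fun i => hlift 0 (-1) ⟨by omega, le_rfl⟩ ⟨le_rfl, by omega⟩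
    (s₂.inj i ≫ biprod.inr ≫ cokernel.π f ≫ φ)
  let b₁ : Q₁ ⟶ Q₁ := (∑ i, s₁.proj i ≫ g₁ i) ≫ biprod.fst
  let b₂ : Q₂ ⟶ Q₂ := (∑ i, s₂.proj i ≫ g₂ i) ≫ biprod.snd
  have h12 : ∀ i, g₁ i ≫ biprod.snd = 0 := fun i => split_hom_ext_right s₂ fun j =>
    hom_eq_zero_of_inverse (LInv k (a := -1) (b := 0) (c := 1) (d := 0) (by omega) (by omega))
      (haveI := h0_L_eq_zero k (0 + 1) (-1 + 0) (by omega)
       (hEquiv (k := k) (LAdd k (a := 0) (b := -1) (c := 1) (d := 0) rfl rfl) 0).toEquiv.subsingleton) _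
  have h21 : ∀ i, g₂ i ≫ biprod.fst = 0 := fun i => split_hom_ext_right s₁ fun j =>
    hom_eq_zero_of_inverse (LInv k (a := 0) (b := -1) (c := 0) (d := 1) (by omega) (by omega))
      (haveI := h0_L_eq_zero k (-1 + 0) (0 + 1) (by omega)
       (hEquiv (k := k) (LAdd k (a := -1) (b := 0) (c := 0) (d := 1) rfl rfl) 0).toEquiv.subsingleton) _
  have hπ : biprod.map b₁ b₂ ≫ cokernel.π f = cokernel.π f ≫ φ := by
    refine biprod.hom_ext' _ _ ?_ ?_
    · refine split_hom_ext s₁ fun i => ?_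
      rw [← hg₁ i, biprod.inl_map_assoc]
      simp only [b₁, ← Category.assoc]
      refine congrArg (· ≫ cokernel.π f) ?_
      rw [Preadditive.comp_sum, Finset.sum_eq_single i]
      · simp only [← Category.assoc, s₁.orth, dif_pos, eqToHom_refl]
        erw [Category.id_comp]
        refine biprod.hom_ext _ _ ?_ ?_
        · simp
        · simp [h12]
      · intro b _ hb
        rw [← Category.assoc, s₁.orth, dif_neg (Ne.symm hb), zero_comp]
      · simp
    · refine split_hom_ext s₂ fun i => ?_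
      rw [← hg₂ i, biprod.inr_map_assoc]
      simp only [b₂, ← Category.assoc]
      refine congrArg (· ≫ cokernel.π f) ?_
      rw [Preadditive.comp_sum, Finset.sum_eq_single i]
      · simp only [← Category.assoc, s₂.orth, dif_pos, eqToHom_refl]
        erw [Category.id_comp]
        refine biprod.hom_ext _ _ ?_ ?_
        · simp [h21]
        · simp
      · intro b _ hb
        rw [← Category.assoc, s₂.orth, dif_neg (Ne.symm hb), zero_comp]
      · simp
  let γ : P ⟶ P := Abelian.monoLift f (f ≫ biprod.map b₁ b₂)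
    (by rw [Category.assoc, hπ, ← Category.assoc, cokernel.condition, zero_comp])
  have hγ : γ ≫ f = f ≫ biprod.map b₁ b₂ := Abelian.monoLift_comp _ _ _
  obtain ⟨c, hc⟩ := (((finite_not_isIso (scalarEnd_L k (-1) 0) s₁ b₁).union
    (finite_not_isIso (scalarEnd_L k 0 (-1)) s₂ b₂)).union
      (finite_not_isIso (scalarEnd_L k (-1) (-1)) sP γ)).infinite_compl.nonempty
  simp only [Set.mem_compl_iff, Set.mem_union, Set.mem_ofPred_eq, not_or, not_not] at hc
  obtain ⟨⟨hc₁, hc₂⟩, hc₃⟩ := hc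
  haveI := hc₁
  haveI := hc₂
  haveI := hc₃
  have hmap : biprod.map (cstH k Q₁ c) (cstH k Q₂ c) = cstH k (Q₁ ⊞ Q₂) c := by
    refine biprod.hom_ext _ _ ?_ ?_
    · rw [biprod.map_fst]; exact (VBLib.cst_natural k biprod.fst c).symm
    · rw [biprod.map_snd]; exact (VBLib.cst_natural k biprod.snd c).symm
  have hadd : ∀ (x x' : Q₁ ⟶ Q₁) (y y' : Q₂ ⟶ Q₂),
      biprod.map (x + x') (y + y') = biprod.map x y + biprod.map x' y' := fun x x' y y' => by
    refine biprod.hom_ext _ _ ?_ ?_ <;> simp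
  obtain ⟨d, h₁, h₂, -⟩ := hstab (asIso (b₁ + cstH k Q₁ c)) (asIso (b₂ + cstH k Q₂ c)) (asIso (γ + cstH k P c)) (by
    simp only [asIso_hom, hadd, hmap, Preadditive.add_comp, Preadditive.comp_add, hγ]
    exact congrArg _ (VBLib.cst_natural k f c))
  refine ⟨d - c, ?_⟩
  rw [← cancel_epi (cokernel.π f), ← hπ, show b₁ = cstH k Q₁ (d - c) by
      rw [cstH_sub, eq_sub_iff_add_eq]; exact h₁,
    show b₂ = cstH k Q₂ (d - c) by rw [cstH_sub, eq_sub_iff_add_eq]; exact h₂]
  have hmap' : biprod.map (cstH k Q₁ (d - c)) (cstH k Q₂ (d - c)) = cstH k (Q₁ ⊞ Q₂) (d - c) := by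
    refine biprod.hom_ext _ _ ?_ ?_
    · rw [biprod.map_fst]; exact (VBLib.cst_natural k biprod.fst _).symm
    · rw [biprod.map_snd]; exact (VBLib.cst_natural k biprod.snd _).symm
  rw [hmap']
  exact VBLib.cst_natural k (cokernel.π f) (d - c)

end Groth.Agent.QuadricLib
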