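import Groth.Agent.CurveLib.Euler
import Groth.Agent.CurveLib.TensorExact

/-!
# Cohomology maps, splittings, and surjectivity after twisting
-/

set_option autoImplicit false
set_option backward.isDefEq.respectTransparency false
set_option linter.style.haveILetI false

universe u

open CategoryTheory CategoryTheory.Limits AlgebraicGeometry

noncomputable section

namespace Groth.Agent.QuadricLib

variable {X : Scheme.{u}}

/-- An additive splitting of `N` by the family `f`. -/
structure Split {C : Type*} [Category C] [Preadditive C] {ι : Type} [Fintype ι] [DecidableEq ι] (f : ι → C) (N : C) where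
  inj : ∀ i, f i ⟶ N
  proj : ∀ i, N ⟶ f i
  total : ∑ i, proj i ≫ inj i = 𝟙 N
  orth : ∀ i j, inj i ≫ proj j = if h : i = j then eqToHom (congrArg f h) else 0

namespace Split

variable {C : Type*} [Category C] [Preadditive C] {D : Type*} [Category D] [Preadditive D]
  {ι : Type} [Fintype ι] [DecidableEq ι] {f : ι → C} {N : C}

/-- The image of a splitting under an additive functor. -/
def map (S : Split f N) (F : C ⥤ D) [F.Additive] : Split (fun i => F.obj (f i)) (F.obj N) where
  inj i := F.map (S.inj i)
  proj i := F.map (S.proj i)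
  total := by
    simp only [← F.map_comp, ← F.map_sum, S.total, F.map_id]
  orth i j := by
    rw [← F.map_comp, S.orth]
    split_ifs with h
    · subst h
      simp
    · simp

/-- Transport along an isomorphism. -/
def ofIso (S : Split f N) {N' : C} (e : N' ≅ N) : Split f N' where
  inj i := S.inj i ≫ e.inv
  proj i := e.hom ≫ S.proj i
  total := by
    simp only [Category.assoc]
    rw [← Preadditive.comp_sum]
    simp only [← Category.assoc]
    rw [← Preadditive.sum_comp, S.total]
    simp
  orth i j := by simp [S.orth]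

/-- Transport along isomorphisms of the pieces. -/
def pieces (S : Split f N) {f' : ι → C} (e : ∀ i, f i ≅ f' i) : Split f' N where
  inj i := (e i).inv ≫ S.inj i
  proj i := S.proj i ≫ (e i).hom
  total := by simp [S.total]
  orth i j := by
    rw [Category.assoc, ← Category.assoc (S.inj i), S.orth]
    split_ifs with h
    · subst h
      simp
    · simp

end Split

/-- The splitting of a finite coproduct. -/
def sigmaSplit {C : Type*} [Category C] [Preadditive C] {r : ℕ} (f : Fin r → C) [HasCoproduct f] :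
    Split f (∐ f) where
  inj i := Sigma.ι f i
  proj j := Sigma.desc fun i => if h : i = j then eqToHom (congrArg f h) else 0
  total := by
    refine Sigma.hom_ext _ _ fun i => ?_
    rw [Preadditive.comp_sum, Category.comp_id, Finset.sum_eq_single i]
    · simp
    · intro j _ hj
      simp [Ne.symm hj]
    · simp
  orth i j := by simp

/-- The splitting of a biproduct. -/
def biprodSplit {C : Type*} [Category C] [Preadditive C] (A B : C) [HasBinaryBiproduct A B] :
    Split (fun i : Fin 2 => ![A, B] i) (A ⊞ B) where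
  inj := Fin.cons (biprod.inl : A ⟶ A ⊞ B) (Fin.cons (biprod.inr : B ⟶ A ⊞ B) finZeroElim)
  proj := Fin.cons (biprod.fst : A ⊞ B ⟶ A) (Fin.cons (biprod.snd : A ⊞ B ⟶ B) finZeroElim)
  total := by
    rw [Fin.sum_univ_two]
    exact biprod.total (X := A) (Y := B)
  orth i j := by
    fin_cases i <;> fin_cases j
    · exact biprod.inl_fst (X := A) (Y := B)
    · exact biprod.inl_snd (X := A) (Y := B)
    · exact biprod.inr_fst (X := A) (Y := B)
    · exact biprod.inr_snd (X := A) (Y := B)

/-- The splitting of a biproduct of split objects. -/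
def Split.biprod {C : Type*} [Category C] [Preadditive C] {ι ι' : Type} [Fintype ι] [DecidableEq ι] [Fintype ι']
    [DecidableEq ι'] {f : ι → C} {g : ι' → C} {A B : C} [HasBinaryBiproduct A B] (S : Split f A) (T : Split g B) :
    Split (Sum.elim f g) (A ⊞ B) where
  inj i := match i with
    | Sum.inl i => S.inj i ≫ biprod.inl
    | Sum.inr i => T.inj i ≫ biprod.inr
  proj i := match i with
    | Sum.inl i => biprod.fst ≫ S.proj i
    | Sum.inr i => biprod.snd ≫ T.proj i
  total := by
    rw [Fintype.sum_sum_type]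
    simp only [Category.assoc]
    rw [← Preadditive.comp_sum, ← Preadditive.comp_sum]
    simp only [← Category.assoc (S.proj _), ← Category.assoc (T.proj _), ← Preadditive.sum_comp, S.total, T.total,
      Category.id_comp]
    exact biprod.total
  orth i j := by
    rcases i with i | i <;> rcases j with j | j
    · simp [S.orth]
    · simp
    · simp
    · simp [T.orth]

variable {k : Type u} [Field k] [X.Over (Spec (CommRingCat.of k))]

theorem hMap_comp {A B C : X.Modules} (f : A ⟶ B) (g : B ⟶ C) (n : ℕ) (x : Coh.HH X A n) :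
    CurveLib.hMap (k := k) (f ≫ g) n x = CurveLib.hMap (k := k) g n (CurveLib.hMap (k := k) f n x) := by
  show Sheaf.H.map _ n x = Sheaf.H.map _ n (Sheaf.H.map _ n x)
  rw [← Sheaf.H.map_comp_apply, ← Functor.map_comp]

theorem hMap_id (A : X.Modules) (n : ℕ) (x : Coh.HH X A n) : CurveLib.hMap (k := k) (𝟙 A) n x = x := by
  show Sheaf.H.map _ n x = x
  rw [CategoryTheory.Functor.map_id, Sheaf.H.map_id_apply]

theorem hMap_zero (A B : X.Modules) (n : ℕ) (x : Coh.HH X A n) :
    CurveLib.hMap (k := k) (0 : A ⟶ B) n x = 0 := by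
  show x.comp (Abelian.Ext.mk₀ ((QCohLib.toAbF X).map (0 : A ⟶ B))) (add_zero n) = 0
  rw [Functor.map_zero, Abelian.Ext.mk₀_zero, Abelian.Ext.comp_zero]

theorem hMap_add {A B : X.Modules} (f g : A ⟶ B) (n : ℕ) (x : Coh.HH X A n) :
    CurveLib.hMap (k := k) (f + g) n x = CurveLib.hMap (k := k) f n x + CurveLib.hMap (k := k) g n x := by
  show x.comp (Abelian.Ext.mk₀ ((QCohLib.toAbF X).map (f + g))) (add_zero n) = _
  rw [Functor.map_add, Abelian.Ext.mk₀_add, Abelian.Ext.comp_add]
  rfl

theorem hMap_sum {A B : X.Modules} {ι : Type} (s : Finset ι) (f : ι → (A ⟶ B)) (n : ℕ) (x : Coh.HH X A n) :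
    CurveLib.hMap (k := k) (∑ i ∈ s, f i) n x = ∑ i ∈ s, CurveLib.hMap (k := k) (f i) n x := by
  classical
  induction s using Finset.induction with
  | empty => simp [hMap_zero]
  | insert a s ha ih => rw [Finset.sum_insert ha, Finset.sum_insert ha, hMap_add, ih]

variable {ι : Type} [Fintype ι] [DecidableEq ι] {f : ι → X.Modules} {N : X.Modules}

/-- Cohomology of a split module. -/
def Split.hhEquiv (S : Split f N) (n : ℕ) : Coh.HH X N n ≃ₗ[k] ∀ i, Coh.HH X (f i) n :=
  LinearEquiv.ofLinearMap (LinearMap.pi fun i => CurveLib.hMap (k := k) (S.proj i) n)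
    (∑ i, CurveLib.hMap (k := k) (S.inj i) n ∘ₗ LinearMap.proj i)
    (LinearMap.ext fun c => funext fun j => by
      simp only [LinearMap.coe_comp, Function.comp_apply, LinearMap.pi_apply, LinearMap.coe_sum, Finset.sum_apply,
        map_sum, LinearMap.coe_proj, Function.eval, LinearMap.id_coe, id_eq]
      rw [Finset.sum_eq_single j]
      · rw [← hMap_comp, S.orth, dif_pos rfl]
        exact hMap_id _ _ _
      · intro i _ hi
        rw [← hMap_comp, S.orth, dif_neg hi, hMap_zero]
      · simp)
    (LinearMap.ext fun x => by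
      simp only [LinearMap.coe_comp, Function.comp_apply, LinearMap.pi_apply, LinearMap.coe_sum, Finset.sum_apply,
        LinearMap.coe_proj, Function.eval, LinearMap.id_coe, id_eq]
      simp only [← hMap_comp]
      rw [← hMap_sum, S.total, hMap_id])

include k in
theorem Split.subsingleton (S : Split f N) (n : ℕ) (h : ∀ i, Subsingleton (Coh.HH X (f i) n)) :
    Subsingleton (Coh.HH X N n) :=
  (S.hhEquiv (k := k) n).toEquiv.subsingleton

variable (k) in
/-- `H⁰(m ⊗ N)` is surjective. -/
def SurjAt {Q P : X.Modules} (m : Q ⟶ P) (N : X.Modules) : Prop :=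
  Function.Surjective (CurveLib.hMap (k := k) (((DCoh.tensorBi (X := X)).map m).app N) 0)

theorem tensBi_natural {Q P N N' : X.Modules} (m : Q ⟶ P) (g : N ⟶ N') :
    ((DCoh.tensorBi (X := X)).map m).app N ≫ ((DCoh.tensorBi (X := X)).obj P).map g =
      ((DCoh.tensorBi (X := X)).obj Q).map g ≫ ((DCoh.tensorBi (X := X)).map m).app N' :=
  (((DCoh.tensorBi (X := X)).map m).naturality g).symm

variable {Q P : X.Modules} {m : Q ⟶ P}

theorem SurjAt.of_split (S : Split f N) (h : ∀ i, SurjAt k m (f i)) : SurjAt k m N := by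
  intro z
  let TP := (DCoh.tensorBi (X := X)).obj P
  let TQ := (DCoh.tensorBi (X := X)).obj Q
  haveI : TP.Additive := ModTensor.additive_tensorBi_obj X.sheaf P
  choose w hw using fun i => h i (CurveLib.hMap (k := k) (TP.map (S.proj i)) 0 z)
  refine ⟨∑ i, CurveLib.hMap (k := k) (TQ.map (S.inj i)) 0 (w i), ?_⟩
  rw [map_sum]
  calc _ = ∑ i, CurveLib.hMap (k := k) (TP.map (S.proj i ≫ S.inj i)) 0 z := by
        refine Finset.sum_congr rfl fun i _ => ?_
        rw [← hMap_comp, ← tensBi_natural, hMap_comp, hw, ← hMap_comp, Functor.map_comp]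
    _ = z := by
        rw [← hMap_sum, ← Functor.map_sum, S.total, CategoryTheory.Functor.map_id, hMap_id]

theorem SurjAt.of_iso {N' : X.Modules} (e : N ≅ N') (h : SurjAt k m N) : SurjAt k m N' := by
  intro z
  obtain ⟨w, hw⟩ := h (CurveLib.hMap (k := k) (((DCoh.tensorBi (X := X)).obj P).map e.inv) 0 z)
  refine ⟨CurveLib.hMap (k := k) (((DCoh.tensorBi (X := X)).obj Q).map e.hom) 0 w, ?_⟩
  rw [← hMap_comp, ← tensBi_natural, hMap_comp, hw, ← hMap_comp, ← Functor.map_comp, e.inv_hom_id,
    CategoryTheory.Functor.map_id, hMap_id]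

theorem SurjAt.of_unit (h : Function.Surjective (CurveLib.hMap (k := k) m 0)) :
    SurjAt k m (Coh.structureModule X) := by
  intro z
  let η := Groth.Agent.ModTensor.tensorUnitRight X.sheaf
  let a : ((DCoh.tensorBi (X := X)).obj P).obj (Coh.structureModule X) ≅ P := η.app P
  let b : ((DCoh.tensorBi (X := X)).obj Q).obj (Coh.structureModule X) ≅ Q := η.app Q
  obtain ⟨w, hw⟩ := h (CurveLib.hMap (k := k) a.hom 0 z)
  refine ⟨CurveLib.hMap (k := k) b.inv 0 w, ?_⟩
  have hn : b.inv ≫ ((DCoh.tensorBi (X := X)).map m).app (Coh.structureModule X) = m ≫ a.inv :=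
    (η.inv.naturality m).symm
  rw [← hMap_comp, hn, hMap_comp, hw, ← hMap_comp, Iso.hom_inv_id, hMap_id]

theorem surjective_hMap_g {S : ShortComplex X.Modules} (hS : S.ShortExact) (n : ℕ)
    [Subsingleton (Coh.HH X S.X₁ (n + 1))] : Function.Surjective (CurveLib.hMap (k := k) S.g n) := by
  intro z
  have : z ∈ LinearMap.range (CurveLib.hMap (k := k) S.g n) := by
    rw [CurveLib.range_hMap_g hS n, LinearMap.mem_ker]
    exact Subsingleton.elim _ _
  exact LinearMap.mem_range.1 this

theorem subsingleton_left {S : ShortComplex X.Modules} (hS : S.ShortExact) (n : ℕ)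
    [Subsingleton (Coh.HH X S.X₂ (n + 1))] (h : Function.Surjective (CurveLib.hMap (k := k) S.g n)) :
    Subsingleton (Coh.HH X S.X₁ (n + 1)) := by
  refine subsingleton_of_forall_eq 0 fun z => ?_
  have hz : z ∈ LinearMap.ker (CurveLib.hMap (k := k) S.f (n + 1)) := LinearMap.mem_ker.2 (Subsingleton.elim _ _)
  rw [← CurveLib.range_hδ hS n, LinearMap.mem_range] at hz
  obtain ⟨w, rfl⟩ := hz
  obtain ⟨v, rfl⟩ := h w
  have : CurveLib.hMap (k := k) S.g n v ∈ LinearMap.ker (CurveLib.hδ (k := k) hS n) := by
    rw [← CurveLib.range_hMap_g hS n]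
    exact LinearMap.mem_range_self _ _
  exact LinearMap.mem_ker.1 this

/-- Surjectivity passes to the right end of a short exact sequence. -/
theorem SurjAt.step {T : ShortComplex X.Modules} (hT : T.ShortExact) {n : ℕ}
    (hP : ∀ x, PullbackMod.FreeAt n P x)
    [Subsingleton (Coh.HH X (CohB1.tensorMod P T.X₁) 1)] (h : SurjAt k m T.X₂) : SurjAt k m T.X₃ := by
  haveI : ((DCoh.tensorBi (X := X)).obj P).Additive := ModTensor.additive_tensorBi_obj X.sheaf P
  let e : CurveLib.tensR P ≅ (DCoh.tensorBi (X := X)).obj P := ModTensor.tensorSymm X.sheaf P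
  have hT' : (T.map ((DCoh.tensorBi (X := X)).obj P)).ShortExact :=
    ShortComplex.shortExact_of_iso (T.mapNatIso e) (CurveLib.shortExact_tensR hT hP)
  intro z
  haveI : Subsingleton (Coh.HH X (T.map ((DCoh.tensorBi (X := X)).obj P)).X₁ (0 + 1)) :=
    inferInstanceAs (Subsingleton (Coh.HH X (CohB1.tensorMod P T.X₁) 1))
  obtain ⟨v, hv⟩ := surjective_hMap_g (k := k) hT' 0 z
  obtain ⟨w, hw⟩ := h v
  refine ⟨CurveLib.hMap (k := k) (((DCoh.tensorBi (X := X)).obj Q).map T.g) 0 w, ?_⟩
  rw [← hMap_comp, ← tensBi_natural, hMap_comp, hw]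
  exact hv

/-- Isomorphic modules have isomorphic cohomology. -/
def hEquiv {A B : X.Modules} (e : A ≅ B) (n : ℕ) : Coh.HH X A n ≃ₗ[k] Coh.HH X B n :=
  LinearEquiv.ofLinearMap (CurveLib.hMap (k := k) e.hom n) (CurveLib.hMap (k := k) e.inv n)
    (LinearMap.ext fun x => by
      simp only [LinearMap.coe_comp, Function.comp_apply, LinearMap.id_coe, id_eq]
      rw [← hMap_comp, e.inv_hom_id, hMap_id])
    (LinearMap.ext fun x => by
      simp only [LinearMap.coe_comp, Function.comp_apply, LinearMap.id_coe, id_eq]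
      rw [← hMap_comp, e.hom_inv_id, hMap_id])

end Groth.Agent.QuadricLib
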